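import Cfsg.Agent.LargeExtra.Nine.ToCent
set_option linter.all false

/-!
# Simplicity from the centralizer of an involution (helper68)

`isSimple` : `X` finite, `P` a large extraspecial 2-subgroup of `C = C_X(t)` of order `> 8`, `C / P` simple, `t` fused in `P` and
`P` generated by the conjugates of `t` in the sense `hspan`.  Then `X` is simple.
-/

set_option autoImplicit false

namespace Cfsg.Agent.LThreeMB.Simp

open Cfsg.Agent.Co2Type.Quad Cfsg.Agent.LargeExtra.Base
open Subgroup (centralizer mem_centralizer_singleton_iff)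

variable {X : Type*} [Group X] {P : Subgroup X} {t : X}

/-- two elements of `P` commuting with `a` and not with each other -/
theorem exists_noncomm (L : Large P t) [Finite ↥P] (hcard : 8 < Nat.card ↥P) {a : X} (ha : a ∈ P) (h1 : a ≠ 1)
    (hat : a ≠ t) : ∃ u ∈ P, ∃ v ∈ P, u * a = a * u ∧ v * a = a * v ∧ u * v ≠ v * u := by
  classical
  by_contra hcon
  push Not at hcon
  obtain ⟨w, hw, hwa⟩ := exists_not_comm L ha h1 hat
  have hwa' : w * a ≠ a * w := by
    intro h
    rw [h] at hwa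
    exact L.z_ne (mul_eq_left.1 hwa.symm)
  -- commutation with `a` and `w`
  let f : ↥P → Bool × Bool := fun p => (decide ((p : X) * a = a * p), decide ((p : X) * w = w * p))
  have key : ∀ (b : X), b ∈ P → ∀ p q : ↥P, decide ((p : X) * b = b * p) = decide ((q : X) * b = b * q) →
      ((p : X) * (q : X)⁻¹) * b = b * (p * (q : X)⁻¹) := by
    intro b hb p q hpq
    have hbt := L.comm_z b hb
    have hqt := L.comm_z q q.2
    have hpt := L.comm_z p p.2
    by_cases hq : (q : X) * b = b * q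
    · have hp : (p : X) * b = b * p := by
        rw [decide_eq_true hq] at hpq
        exact of_decide_eq_true hpq
      have h3 : (q : X)⁻¹ * b = b * (q : X)⁻¹ := by
        rw [inv_mul_eq_iff_eq_mul, ← mul_assoc, hq, mul_assoc, mul_inv_cancel, mul_one]
      rw [mul_assoc, h3, ← mul_assoc, hp, mul_assoc]
    · have hp : ¬ (p : X) * b = b * p := by
        rw [decide_eq_false hq] at hpq
        exact of_decide_eq_false hpq
      have e1 := (L.comm p p.2 b hb).resolve_left hp
      have e2 := (L.comm q q.2 b hb).resolve_left hq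
      -- `q⁻¹ b = b q⁻¹ t`
      have h3 : (q : X)⁻¹ * b = b * (q : X)⁻¹ * t := by
        have h4 : b * q = q * b * t := by
          rw [e2, mul_assoc (b * (q : X)) t t, L.z_sq, mul_one]
        have h5 : (q : X)⁻¹ * t = t * (q : X)⁻¹ := by
          rw [inv_mul_eq_iff_eq_mul, ← mul_assoc, hqt, mul_assoc, mul_inv_cancel, mul_one]
        calc (q : X)⁻¹ * b = (q : X)⁻¹ * (b * q) * (q : X)⁻¹ := by group
          _ = (q : X)⁻¹ * (q * b * t) * (q : X)⁻¹ := by rw [h4]
          _ = b * (t * (q : X)⁻¹) := by group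
          _ = b * (q : X)⁻¹ * t := by rw [← h5, mul_assoc]
      have h6 : t * ((q : X)⁻¹ * t) = (q : X)⁻¹ := by
        have h5 : (q : X)⁻¹ * t = t * (q : X)⁻¹ := by
          rw [inv_mul_eq_iff_eq_mul, ← mul_assoc, hqt, mul_assoc, mul_inv_cancel, mul_one]
        rw [h5, ← mul_assoc, L.z_sq, one_mul]
      calc ((p : X) * (q : X)⁻¹) * b = p * ((q : X)⁻¹ * b) := by group
        _ = (p * b) * (q : X)⁻¹ * t := by rw [h3]; group
        _ = b * p * (t * ((q : X)⁻¹ * t)) := by rw [e1]; group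
        _ = b * (p * (q : X)⁻¹) := by rw [h6]; group
  -- the fibres have at most two elements
  have hfib : ∀ p q : ↥P, f p = f q → (p : X) = q ∨ (p : X) = t * q := by
    intro p q hpq
    have hpq1 := congrArg Prod.fst hpq
    have hpq2 := congrArg Prod.snd hpq
    have k1 := key a ha p q hpq1
    have k2 := key w hw p q hpq2
    have hm : (p : X) * (q : X)⁻¹ ∈ P := P.mul_mem p.2 (P.inv_mem q.2)
    have k3 : ∀ y ∈ P, ((p : X) * (q : X)⁻¹) * y = y * (p * (q : X)⁻¹) := by
      intro y hy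
      by_cases hya : y * a = a * y
      · exact hcon _ hm y hy k1 hya
      · have h7 := (L.comm y hy a ha).resolve_left hya
        have h8 : (y * w) * a = a * (y * w) := by
          have hta : t * w = w * t := (L.comm_z w hw).symm
          calc (y * w) * a = y * (w * a) := by group
            _ = y * (a * w * t) := by rw [hwa]
            _ = (y * a) * w * t := by group
            _ = a * y * (t * w) * t := by rw [h7]; group
            _ = a * (y * w) * (t * t) := by rw [hta]; group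
            _ = a * (y * w) := by rw [L.z_sq, mul_one]
        have h9 := hcon _ hm _ (P.mul_mem hy hw) k1 h8
        calc ((p : X) * (q : X)⁻¹) * y = ((p * (q : X)⁻¹) * (y * w)) * w⁻¹ := by group
          _ = y * (w * (p * (q : X)⁻¹)) * w⁻¹ := by rw [h9]; group
          _ = y * ((p * (q : X)⁻¹) * w) * w⁻¹ := by rw [← k2]
          _ = y * (p * (q : X)⁻¹) := by group
    rcases L.cent _ hm k3 with h | h
    · left; exact mul_inv_eq_one.1 h
    · right; exact mul_inv_eq_iff_eq_mul.1 h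
  have htP : t ∈ P := L.z_mem
  -- count
  have := Fintype.ofFinite ↥P
  have h10 := Finset.card_le_mul_card_image (f := f) (Finset.univ : Finset ↥P) 2 (by
    intro b hb
    obtain ⟨q, -, rfl⟩ := Finset.mem_image.1 hb
    have hsub : (Finset.univ.filter fun p : ↥P => f p = f q) ⊆ {q, ⟨t * q, P.mul_mem htP q.2⟩} := by
      intro p hp
      rw [Finset.mem_filter] at hp
      rw [Finset.mem_insert, Finset.mem_singleton]
      rcases hfib p q hp.2 with h | h
      · left; exact Subtype.ext h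
      · right; exact Subtype.ext h
    exact (Finset.card_le_card hsub).trans Finset.card_le_two)
  have h11 : (Finset.univ.image f).card ≤ 4 := by
    refine (Finset.card_le_univ _).trans ?_
    simp
  rw [Finset.card_univ, ← Nat.card_eq_fintype_card] at h10
  omega

/-- conjugation of a large subgroup -/
theorem mem_conj {a y : X} (L : Large P t) (hy : y * t * y⁻¹ = a) : Large (P.map (MulAut.conj y).toMonoidHom) a := by
  rw [← hy]
  exact L.conj y

/-- a subgroup on which `t` has no fixed points is inverted by `t` -/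
theorem inverted [Finite X] {Y : Subgroup X} (hY : Y.Normal) (htt : t * t = 1) (hfix : ∀ y ∈ Y, t * y = y * t → y = 1) :
    ∀ y ∈ Y, t * y * t⁻¹ = y⁻¹ := by
  let φ : ↥Y →* ↥Y :=
    { toFun := fun y => ⟨t * y * t⁻¹, hY.conj_mem y y.2 t⟩
      map_one' := Subtype.ext (by show t * 1 * t⁻¹ = 1; group)
      map_mul' := fun a b => Subtype.ext (by show t * (a * b) * t⁻¹ = (t * a * t⁻¹) * (t * b * t⁻¹); group) }
  have h1 : MonoidHom.FixedPointFree φ := by
    intro y hy
    have h2 : t * (y : X) * t⁻¹ = y := congrArg Subtype.val hy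
    exact Subtype.ext (hfix y y.2 (mul_inv_eq_iff_eq_mul.1 h2))
  have hinv : Function.Involutive φ := by
    intro y
    apply Subtype.ext
    show t * (t * y * t⁻¹) * t⁻¹ = y
    calc t * (t * (y : X) * t⁻¹) * t⁻¹ = (t * t) * y * (t * t)⁻¹ := by group
      _ = y := by rw [htt]; group
  have h2 := h1.coe_eq_inv_of_involutive hinv
  intro y hy
  have h3 := congrFun h2 ⟨y, hy⟩
  exact congrArg Subtype.val h3

/-- a nontrivial normal subgroup contains `t` -/
theorem t_mem [Finite X] (L : Large P t) (hfus : ∃ g, g * t * g⁻¹ ∈ P ∧ g * t * g⁻¹ ≠ t) {Y : Subgroup X}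
    (hY : Y.Normal) (hne : Y ≠ ⊥) : t ∈ Y := by
  by_cases hYP : ∃ p ∈ Y, p ∈ P ∧ p ≠ 1
  · obtain ⟨p, hpY, hpP, hp1⟩ := hYP
    by_cases hpt : p = t
    · rwa [hpt] at hpY
    · obtain ⟨w, hw, hwp⟩ := exists_not_comm L hpP hp1 hpt
      have h1 : (w * p * w⁻¹) * p⁻¹ ∈ Y := Y.mul_mem (hY.conj_mem p hpY w) (Y.inv_mem hpY)
      have h2 : (w * p * w⁻¹) * p⁻¹ = t := by
        have h3 : w * t = t * w := L.comm_z w hw
        have h4 : p * t = t * p := L.comm_z p hpP
        calc (w * p * w⁻¹) * p⁻¹ = p * (w * t) * w⁻¹ * p⁻¹ := by rw [hwp]; group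
          _ = (p * t) * p⁻¹ := by rw [h3]; group
          _ = t := by rw [h4]; group
      rwa [h2] at h1
  · push Not at hYP
    exfalso
    apply hne
    have hfix : ∀ y ∈ Y, t * y = y * t → y = 1 := by
      intro y hy hty
      have h1 : y ∈ P := by
        refine L.self y hty.symm fun p hp => ?_
        have h2 : y * p * y⁻¹ ∈ P := L.conj_mem y hty.symm p hp
        have h3 : y * p * y⁻¹ * p⁻¹ ∈ P := P.mul_mem h2 (P.inv_mem hp)
        have h4 : y * p * y⁻¹ * p⁻¹ ∈ Y := by
          have e : y * p * y⁻¹ * p⁻¹ = y * (p * y⁻¹ * p⁻¹) := by group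
          rw [e]
          exact Y.mul_mem hy (hY.conj_mem _ (Y.inv_mem hy) p)
        have h5 := hYP _ h4 h3
        exact (mul_inv_eq_iff_eq_mul.1 (mul_inv_eq_one.1 h5))
      exact hYP y hy h1
    have hi := inverted hY L.z_sq hfix
    obtain ⟨g, hgP, hgt⟩ := hfus
    set a := g * t * g⁻¹ with ha
    have hi' : ∀ (k : X) (b : X), k * t * k⁻¹ = b → ∀ y ∈ Y, b * y * b⁻¹ = y⁻¹ := by
      rintro k b rfl y hy
      have h1 : k⁻¹ * y * k ∈ Y := by
        have := hY.conj_mem y hy k⁻¹
        rwa [inv_inv] at this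
      calc k * t * k⁻¹ * y * (k * t * k⁻¹)⁻¹ = k * (t * (k⁻¹ * y * k) * t⁻¹) * k⁻¹ := by group
        _ = y⁻¹ := by rw [hi _ h1]; group
    have ha1 : a ≠ 1 := by
      intro h
      apply L.z_ne
      calc t = g⁻¹ * a * g := by rw [ha]; group
        _ = 1 := by rw [h]; group
    obtain ⟨w, hw, hwa⟩ := exists_not_comm L hgP ha1 hgt
    have hat : (w * g) * t * (w * g)⁻¹ = a * t := by
      have h3 : w * t = t * w := L.comm_z w hw
      calc (w * g) * t * (w * g)⁻¹ = (w * a) * w⁻¹ := by rw [ha]; group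
        _ = a * (w * t) * w⁻¹ := by rw [hwa]; group
        _ = a * t := by rw [h3]; group
    rw [eq_bot_iff]
    intro y hy
    have e1 := hi' g a rfl y hy
    have e2 := hi' (w * g) (a * t) hat y hy
    have e3 := hi y hy
    have hiY : y⁻¹ ∈ Y := Y.inv_mem hy
    have e4 := hi' g a rfl _ hiY
    have e5 : y = y⁻¹ := by
      calc y = (y⁻¹)⁻¹ := by group
        _ = a * y⁻¹ * a⁻¹ := e4.symm
        _ = a * (t * y * t⁻¹) * a⁻¹ := by rw [e3]
        _ = a * t * y * (a * t)⁻¹ := by group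
        _ = y⁻¹ := e2
    rw [Subgroup.mem_bot]
    refine hfix y hy ?_
    have e6 : t * y * t⁻¹ = y := by rw [e3, ← e5]
    exact mul_inv_eq_iff_eq_mul.1 e6

/-- **Simplicity.** -/
theorem isSimple [Finite X] (L : Large P t) (hcard : 8 < Nat.card ↥P)
    (hsimple : ∀ N : Subgroup X, P ≤ N → (∀ n ∈ N, n * t = t * n) →
      (∀ g : X, g * t = t * g → ∀ n ∈ N, g * n * g⁻¹ ∈ N) → N = P ∨ N = centralizer ({t} : Set X))
    (hspan : ∀ N : Subgroup X, t ∈ N → (∀ g : X, g * t = t * g → ∀ n ∈ N, g * n * g⁻¹ ∈ N) →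
      (∀ g : X, g * t * g⁻¹ ∈ P → g * t * g⁻¹ ∈ N) → P ≤ N)
    (hfus : ∃ g, g * t * g⁻¹ ∈ P ∧ g * t * g⁻¹ ≠ t) : IsSimpleGroup X := by
  have hnt : Nontrivial X := ⟨⟨t, 1, L.z_ne⟩⟩
  have : Fact (Nat.Prime 2) := ⟨Nat.prime_two⟩
  refine ⟨fun Y hY => ?_⟩
  by_cases hne : Y = ⊥
  · exact Or.inl hne
  right
  have htY := t_mem L hfus hY hne
  have hPY : P ≤ Y := hspan Y htY (fun g _ n hn => hY.conj_mem n hn g) (fun g _ => hY.conj_mem t htY g)
  -- a Sylow 2-subgroup of `Y` containing `P`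
  have hP2 : IsPGroup 2 ↥(P.subgroupOf Y) :=
    (isPGroup L).of_injective (Subgroup.subgroupOfEquivOfLe hPY).toMonoidHom (Subgroup.subgroupOfEquivOfLe hPY).injective
  obtain ⟨S, hS⟩ := hP2.exists_le_sylow
  let S' : Subgroup X := (S : Subgroup ↥Y).map Y.subtype
  have hPS : P ≤ S' := by
    intro p hp
    exact ⟨⟨p, hPY hp⟩, hS (Subgroup.mem_subgroupOf.2 hp), rfl⟩
  have hS'2 : IsPGroup 2 ↥S' := S.isPGroup'.map _
  have hS'Y : S' ≤ Y := by
    rintro _ ⟨y, -, rfl⟩
    exact y.2
  -- the centre of `S'` is `⟨t⟩`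
  have hcen : ∀ s ∈ S', (∀ y ∈ S', s * y = y * s) → s = 1 ∨ s = t := by
    intro s hs hsc
    have h1 : s ∈ P := L.self s (hsc t (hPS L.z_mem)) fun p hp => hsc p (hPS hp)
    exact L.cent s h1 fun y hy => hsc y (hPS hy)
  have hSt : ∀ s ∈ S', s * t = t * s := by
    have hnt' : Nontrivial ↥S' := ⟨⟨⟨t, hPS L.z_mem⟩, 1, fun h => L.z_ne (congrArg Subtype.val h)⟩⟩
    have h1 := hS'2.center_nontrivial
    obtain ⟨⟨c, hc⟩, hc1⟩ := exists_ne (1 : ↥(Subgroup.center ↥S'))
    have h2 : ∀ y ∈ S', (c : X) * y = y * c := fun y hy =>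
      (congrArg Subtype.val (Subgroup.mem_center_iff.1 hc ⟨y, hy⟩)).symm
    rcases hcen c c.2 h2 with h3 | h3
    · exfalso
      apply hc1
      exact Subtype.ext (Subtype.ext h3)
    · intro s hs
      rw [← h3]
      exact (h2 s hs).symm
  -- the normalizer of `S'` lies in `C(t)`
  have hnor : ∀ g ∈ Subgroup.normalizer (S' : Set X), g * t = t * g := by
    intro g hg
    have h1 : g * t * g⁻¹ ∈ S' := (Subgroup.mem_normalizer_iff.1 hg t).1 (hPS L.z_mem)
    have h2 : ∀ y ∈ S', g * t * g⁻¹ * y = y * (g * t * g⁻¹) := by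
      intro y hy
      have h3 : g⁻¹ * y * g ∈ S' := by
        have h4 := (Subgroup.mem_normalizer_iff.1 hg (g⁻¹ * y * g)).2 (by
          have e : g * (g⁻¹ * y * g) * g⁻¹ = y := by group
          rwa [e])
        exact h4
      have h4 := hSt _ h3
      calc g * t * g⁻¹ * y = g * (t * (g⁻¹ * y * g)) * g⁻¹ := by group
        _ = g * ((g⁻¹ * y * g) * t) * g⁻¹ := by rw [h4]
        _ = y * (g * t * g⁻¹) := by group
    rcases hcen _ h1 h2 with h3 | h3
    · exfalso
      apply L.z_ne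
      calc t = g⁻¹ * (g * t * g⁻¹) * g := by group
        _ = 1 := by rw [h3]; group
    · exact mul_inv_eq_iff_eq_mul.1 h3
  have hfrat : Subgroup.normalizer (S' : Set X) ⊔ Y = ⊤ := Sylow.normalizer_sup_eq_top S
  -- `Y ∩ C(t)`
  have hN := hsimple (Y ⊓ centralizer ({t} : Set X))
    (fun p hp => Subgroup.mem_inf.2 ⟨hPY hp, mem_centralizer_singleton_iff.2 (L.comm_z p hp)⟩)
    (fun n hn => mem_centralizer_singleton_iff.1 (Subgroup.mem_inf.1 hn).2)
    (fun g hg n hn => by
      obtain ⟨h1, h2⟩ := Subgroup.mem_inf.1 hn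
      refine Subgroup.mem_inf.2 ⟨hY.conj_mem n h1 g, mul_mem (mul_mem (mem_centralizer_singleton_iff.2 hg) h2)
        (inv_mem (mem_centralizer_singleton_iff.2 hg))⟩)
  rcases hN with hN | hN
  · -- `C_Y(t) = P`
    exfalso
    obtain ⟨g, hgP, hgt⟩ := hfus
    -- `g = y c` with `y ∈ Y`, `c ∈ C(t)`
    have hg : g ∈ Y ⊔ Subgroup.normalizer (S' : Set X) := by rw [sup_comm, hfrat]; trivial
    rw [Subgroup.mem_sup_of_normal_left] at hg
    obtain ⟨y, hy, c, hc, hyc⟩ := hg
    have hct := hnor c hc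
    have hyt : y * t * y⁻¹ = g * t * g⁻¹ := by
      rw [← hyc]
      calc y * t * y⁻¹ = y * (t * c) * c⁻¹ * y⁻¹ := by group
        _ = y * (c * t) * c⁻¹ * y⁻¹ := by rw [hct]
        _ = (y * c) * t * (y * c)⁻¹ := by group
    set a := g * t * g⁻¹ with ha
    have ha1 : a ≠ 1 := by
      intro h
      apply L.z_ne
      calc t = g⁻¹ * a * g := by rw [ha]; group
        _ = 1 := by rw [h]; group
    obtain ⟨u, hu, v, hv, hua, hva, huv⟩ := exists_noncomm L hcard hgP ha1 hgt
    have hmem : ∀ u ∈ P, u * a = a * u → y⁻¹ * u * y ∈ P := by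
      intro u hu hua
      rw [← hN]
      refine Subgroup.mem_inf.2 ⟨?_, mem_centralizer_singleton_iff.2 ?_⟩
      · exact Y.mul_mem (Y.mul_mem (Y.inv_mem hy) (hPY hu)) hy
      · have e : t = y⁻¹ * a * y := by rw [← hyt]; group
        calc y⁻¹ * u * y * t = y⁻¹ * u * y * (y⁻¹ * a * y) := by rw [← e]
          _ = y⁻¹ * (u * a) * y := by group
          _ = y⁻¹ * (a * u) * y := by rw [hua]
          _ = (y⁻¹ * a * y) * (y⁻¹ * u * y) := by group
          _ = t * (y⁻¹ * u * y) := by rw [← e]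
    have hu' := hmem u hu hua
    have hv' := hmem v hv hva
    have e1 := (L.comm u hu v hv).resolve_left huv
    rcases L.comm _ hu' _ hv' with e2 | e2
    · apply huv
      calc u * v = y * ((y⁻¹ * u * y) * (y⁻¹ * v * y)) * y⁻¹ := by group
        _ = y * ((y⁻¹ * v * y) * (y⁻¹ * u * y)) * y⁻¹ := by rw [e2]
        _ = v * u := by group
    · apply hgt
      have e3 : u * v = v * u * a := by
        calc u * v = y * ((y⁻¹ * u * y) * (y⁻¹ * v * y)) * y⁻¹ := by group
          _ = y * ((y⁻¹ * v * y) * (y⁻¹ * u * y) * t) * y⁻¹ := by rw [e2]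
          _ = v * u * (y * t * y⁻¹) := by group
          _ = v * u * a := by rw [hyt]
      exact mul_left_cancel (e3.symm.trans e1)
  · -- `C(t) ≤ Y`
    have hCY : ∀ g : X, g * t = t * g → g ∈ Y := by
      intro g hg
      have h1 : g ∈ centralizer ({t} : Set X) := mem_centralizer_singleton_iff.2 hg
      rw [← hN] at h1
      exact (Subgroup.mem_inf.1 h1).1
    rw [eq_top_iff, ← hfrat]
    exact sup_le (fun g hg => hCY g (hnor g hg)) le_rfl

end Cfsg.Agent.LThreeMB.Simp
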