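import Cfsg.Agent.LThreeMB.Fix
import Cfsg.Agent.CoOneType.CoQ
import Cfsg.Agent.Prune
set_option linter.all false
prune_inst 0x7f00000000000000000000000000000000000000000000000000000000000000000000000000000000000000000000000000000000000000000000000000000000000000000000000000000000000000003fffffffffffffffffffffffffffbeffbdffffffff
open scoped Cfsg.Agent.FastGrp

/-!
# A fast form of the check `spanB` (helper52): all generators are packed into one vector
-/

set_option autoImplicit false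

namespace Cfsg.Agent.LThreeMB.SpanQ

open Cfsg Cfsg.Agent.SporadicA Cfsg.Agent.SporadicStructure.Co0Matrix Cfsg.Agent.CoOneType.CoQ Finset

section
open Cfsg.Agent.CoOneType.CoEval (ap length_ap)
open Cfsg.Agent.LThreeMB.Fix (addL mulL res halfB latB getD_addL length_addL vec_addL lat_spec length_of_leechB tri)

def tn (R : List (List ℤ)) : ℕ → List ℤ → List ℤ
  | 0, _ => []
  | n + 1, l => addL l (tn R n (ap R l))

theorem getD_mulL (c : ℤ) (l : List ℤ) (j : ℕ) : (mulL c l).getD j 0 = c * l.getD j 0 := by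
  have : (l.map fun a => c * a).getD j (c * 0) = c * l.getD j 0 := List.getD_map (f := fun a => c * a) ..
  rwa [mul_zero] at this

theorem dcomm {r l : List ℤ} (hr : r.length ≤ 24) (hl : l.length ≤ 24) : dotL r l = dotL l r := by
  rw [← dotInt_vec _ _ hr, dotInt_comm, dotInt_vec _ _ hl]

def Lt (l : List ℤ) : Prop := l.length = 24 ∧ vec l ∈ leechLattice

def Bd (c : ℤ) (l : List ℤ) : Prop := ∀ j, |l.getD j 0| ≤ c

def Pq (s : ℤ) (F : ℕ → List ℤ) (G : List ℤ) : Prop :=
  ∀ j < 24, G.getD j 0 = s * ∑ a ∈ range 49, (F a).getD j 0 * (2 ^ 256) ^ a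

theorem ap_get {R : List (List ℤ)} (l : List ℤ) {j : ℕ} (hj : j < R.length) :
    (ap R l).getD j 0 = dotL l (R.getD j []) / 8 := by
  show (R.map fun r => dotL l r / 8).getD j 0 = _
  rw [List.getD_eq_getElem _ _ (by rwa [List.length_map]), List.getElem_map, List.getD_eq_getElem _ _ hj]

theorem lt_ap {R : List (List ℤ)} (hl : R.length = 24) (hp : presB R = true) {l : List ℤ} (h : Lt l) :
    Lt (ap R l) ∧ ∀ j < 24, 8 ∣ dotL l (R.getD j []) := by
  obtain ⟨h1, h2⟩ := act_mem hl hp _ h.2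
  refine ⟨⟨length_ap hl l, (act_vec hl h.1.le) ▸ h2⟩, fun j hj => ?_⟩
  have h3 : (8 : ℤ) ∣ dotInt (vec l) (vec (R.getD (GolayBase.idx (GolayBase.pt j)) [])) := h1 _
  rwa [GolayBase.idx_pt hj, dotInt_vec _ _ h.1.le] at h3

theorem lt_tn {R : List (List ℤ)} (hl : R.length = 24) (hp : presB R = true) : ∀ (n : ℕ) {l : List ℤ}, Lt l →
    (tn R n l).length ≤ 24 ∧ vec (tn R n l) ∈ leechLattice
  | 0, _, _ => ⟨Nat.zero_le _, (show (0 : GolayPt → ℤ) = vec [] from funext fun _ => rfl) ▸ leechLattice.zero_mem⟩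
  | n + 1, l, h => by
    obtain ⟨h1, h2⟩ := lt_tn hl hp n (lt_ap hl hp h).1
    show (addL l (tn R n (ap R l))).length ≤ 24 ∧ vec (addL l (tn R n (ap R l))) ∈ leechLattice
    rw [length_addL, vec_addL]
    exact ⟨max_le h.1.le h1, leechLattice.add_mem h.2 h2⟩

theorem bd_dot {c : ℤ} {l r : List ℤ} (hr : r.length ≤ 24) (h : Bd c l) (h' : Bd 1000 r) : |dotL r l| ≤ 24000 * c := by
  rw [← sum_range_getD _ _ 24 hr]
  exact (abs_sum fun i => abs_mul' (h' i) (h i)).trans_eq (by ring)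

theorem abs_div {x c : ℤ} (h : |x| ≤ c) : |x / 8| ≤ c := by
  rw [abs_le] at h ⊢
  omega

theorem bd_tn {R : List (List ℤ)} (hR : sh R = true) (hl : R.length = 24) : ∀ (n : ℕ) {c : ℤ} {l : List ℤ},
    l.length = 24 → Bd c l → Bd (32768 ^ n * c) (tn R n l)
  | 0, c, _, _, h => fun j => (show |(0 : ℤ)| ≤ c from abs_zero.trans_le ((abs_nonneg _).trans (h 0))).trans_eq (by ring)
  | n + 1, c, l, h1, h => fun j => by
    have hc : 0 ≤ c := (abs_nonneg _).trans (h 0)
    have h2 : Bd (24000 * c) (ap R l) := fun i => by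
      by_cases hi : i < R.length
      · rw [ap_get l hi, dcomm h1.le (sh_le hR i)]
        exact abs_div (bd_dot (sh_le hR i) h (sh_abs hR i))
      · rw [List.getD_eq_default _ _ (by rw [length_ap hl, ← hl]; exact not_lt.1 hi), abs_zero]
        exact mul_nonneg (by decide) hc
    have h3 := bd_tn hR hl n (length_ap hl l) h2 j
    have h4 : (1 : ℤ) * c ≤ 32768 ^ n * c := mul_le_mul_of_nonneg_right (one_le_pow₀ (by decide)) hc
    show |(addL l (tn R n (ap R l))).getD j 0| ≤ _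
    rw [getD_addL, pow_succ]
    refine (abs_add_le _ _).trans ?_
    linarith only [h j, h3, h4, hc]

theorem bd_res {c : ℤ} {l : List ℤ} (hl : l.length = 24) (h : Bd c l) : ∀ vw : List (List ℤ × List ℤ),
    sh (vw.map Prod.fst) = true → sh (vw.map Prod.snd) = true →
    (res l vw).length = 24 ∧ Bd ((1 + vw.length * 24000000) * c) (res l vw)
  | [], _, _ => ⟨hl, fun j => (h j).trans_eq (by simp)⟩
  | p :: t, h1, h2 => by
    obtain ⟨h3, h4⟩ := bd_res hl h t (Bool.and_eq_true_iff.1 h1).2 (Bool.and_eq_true_iff.1 h2).2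
    have h5 : p.1.length = 24 := sh_len h1 List.mem_cons_self
    have h6 : p.2.length = 24 := sh_len h2 List.mem_cons_self
    refine ⟨?_, fun j => ?_⟩
    · show (addL (p.1.map _) (res l t)).length = 24
      rw [length_addL, List.length_map, h5, h3, max_self]
    · show |(addL (mulL (-(dotL l p.2 / 8)) p.1) (res l t)).getD j 0| ≤ _
      have h7 : |-(dotL l p.2 / 8)| ≤ 24000 * c := by
        rw [abs_neg, dcomm hl.le h6.le]
        exact abs_div (bd_dot h6.le h (sh_abs h2 0))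
      have h8 := abs_mul' h7 (show |p.1.getD j 0| ≤ 1000 from sh_abs h1 0 j)
      rw [getD_addL, getD_mulL, List.length_cons, Nat.cast_succ]
      refine (abs_add_le _ _).trans ?_
      linarith only [h8, h4 j]

theorem dot_pq {s : ℤ} {F : ℕ → List ℤ} {G : List ℤ} (h : Pq s F G) {r : List ℤ} (hr : r.length ≤ 24) :
    dotL r G = s * ∑ a ∈ range 49, dotL r (F a) * (2 ^ 256) ^ a := by
  rw [← sum_range_getD _ _ 24 hr, sum_congr rfl fun j hj => congrArg _ (h j (mem_range.1 hj))]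
  simp only [← sum_range_getD r _ 24 hr, sum_mul, mul_sum]
  rw [sum_comm]
  exact sum_congr rfl fun a _ => sum_congr rfl fun j _ => by ring

noncomputable def lq (R : List (List ℤ)) (n : ℕ) : List ℤ → List ℤ → List ℤ :=
  Nat.rec (fun _ A => A) (fun _ ih G A => ih (mv R G) (mulL 8 (addL A G))) n

theorem lq_spec {R : List (List ℤ)} (hR : sh R = true) (hl : R.length = 24) (hp : presB R = true) :
    ∀ (n : ℕ) {s : ℤ} {F : ℕ → List ℤ} {G : List ℤ} (A : List ℤ), (∀ a < 49, Lt (F a)) → Pq s F G → ∀ j < 24,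
      (lq R n G A).getD j 0 = 8 ^ n * (A.getD j 0 + s * ∑ a ∈ range 49, (tn R n (F a)).getD j 0 * (2 ^ 256) ^ a)
  | 0, s, F, G, A, _, _, j, _ => by
    show A.getD j 0 = 8 ^ 0 * (A.getD j 0 + s * ∑ a ∈ range 49, (0 : ℤ) * (2 ^ 256) ^ a)
    simp only [zero_mul, sum_const_zero, mul_zero, add_zero, pow_zero, one_mul]
  | n + 1, s, F, G, A, hF, hG, j, hj => by
    have h1 : Pq (8 * s) (fun a => ap R (F a)) (mv R G) := fun i hi => by
      rw [mv_get, dot_pq hG (sh_le hR i), mul_comm 8 s, mul_assoc, mul_sum _ _ 8]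
      refine congrArg _ (sum_congr rfl fun a ha => ?_)
      rw [ap_get _ (hl ▸ hi), ← mul_assoc, Int.mul_ediv_cancel' ((lt_ap hl hp (hF a (mem_range.1 ha))).2 i hi),
        dcomm (sh_le hR i) (hF a (mem_range.1 ha)).1.le]
    refine (lq_spec hR hl hp n (mulL 8 (addL A G)) (fun a ha => (lt_ap hl hp (hF a ha)).1) h1 j hj).trans ?_
    show _ = _ * (_ + s * ∑ a ∈ range 49, (addL (F a) (tn R n (ap R (F a)))).getD j 0 * (2 ^ 256) ^ a)
    simp only [getD_mulL, getD_addL, add_mul, sum_add_distrib, hG j hj]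
    ring

noncomputable def rq (T : List ℤ) (vw : List (List ℤ × List ℤ)) : List ℤ :=
  List.rec (mulL 8 T) (fun p _ ih => addL (mulL (-dk p.2 T 0 0) p.1) ih) vw

theorem rq_spec {s : ℤ} {F : ℕ → List ℤ} {T : List ℤ} (hF : ∀ a < 49, Lt (F a)) (hT : Pq s F T) :
    ∀ vw : List (List ℤ × List ℤ), latB vw = true → Pq (8 * s) (fun a => res (F a) vw) (rq T vw)
  | [], _ => fun j hj => (getD_mulL 8 T j).trans (by rw [hT j hj, mul_assoc]; rfl)
  | p :: t, h => fun j hj => by
    have h1 := (lat_spec h List.mem_cons_self).2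
    have h2 := (length_of_leechB h1).le
    show (addL (mulL (-dk p.2 T 0 0) p.1) (rq T t)).getD j 0 =
      _ * ∑ a ∈ range 49, (addL (mulL (-(dotL (F a) p.2 / 8)) p.1) (res (F a) t)).getD j 0 * (2 ^ 256) ^ a
    have h3 : ∀ a ∈ range 49, dotL p.2 (F a) * (2 ^ 256) ^ a = 8 * (dotL (F a) p.2 / 8 * (2 ^ 256) ^ a) := fun a ha => by
      have h4 := Cfsg.Agent.MonsterU.Lam2.dvd_dot ⟨_, (hF a (mem_range.1 ha)).2⟩ ⟨_, vec_mem_of_leechB h1⟩
      rw [dotInt_vec _ _ (hF a (mem_range.1 ha)).1.le] at h4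
      rw [← mul_assoc, Int.mul_ediv_cancel' h4, dcomm h2 (hF a (mem_range.1 ha)).1.le]
    rw [getD_addL, getD_mulL, dk0, dot_pq hT h2, sum_congr rfl h3, ← mul_sum, rq_spec hF hT t (Bool.and_eq_true_iff.1 h).2 j hj]
    simp only [getD_mulL, getD_addL, add_mul, sum_add_distrib, neg_mul, sum_neg_distrib, mul_right_comm _ (p.1.getD j 0),
      ← sum_mul]
    ring

def ts1 (n : ℕ) (N : ℤ) : Bool :=
  Nat.beq (Nat.land (N + Int.ofNat (Nat.mul (Nat.pow 2 255) (jj 256 n))).toNat (Nat.mul 15 (jj 256 n))) 0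

theorem key1 {n : ℕ} (d : ℕ → ℤ) (hd : ∀ a, |d a| < 2 ^ 255) (h : ts1 n (∑ a ∈ range n, d a * (2 ^ 256) ^ a) = true) (a : ℕ)
    (ha : a < n) : 16 ∣ d a := by
  have h1 : ∀ a, (((d a + 2 ^ 255).toNat : ℕ) : ℤ) = d a + 2 ^ 255 := fun a =>
    Int.toNat_of_nonneg (by linarith only [(abs_lt.1 (hd a)).1])
  have h2 : ∀ a, (d a + 2 ^ 255).toNat < 2 ^ 256 := fun a => by
    have := (abs_lt.1 (hd a)).2
    have := h1 a
    omega
  have h4 := Nat.eq_of_beq_eq_true h
  have e1 : (∑ a ∈ range n, d a * (2 ^ 256) ^ a) + Int.ofNat (Nat.mul (Nat.pow 2 255) (jj 256 n)) =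
      ((∑ a ∈ range n, (d a + 2 ^ 255).toNat * (2 ^ 256) ^ a : ℕ) : ℤ) := by
    show _ + ((2 ^ 255 * jj 256 n : ℕ) : ℤ) = _
    rw [jj_eq (by decide)]
    simp only [Nat.cast_sum, Nat.cast_mul, Nat.cast_pow, Nat.cast_ofNat, h1, add_mul, sum_add_distrib]
    rw [← mul_sum]
  have e2 : Nat.mul 15 (jj 256 n) = ∑ a ∈ range n, 15 * (2 ^ 256) ^ a := by
    show 15 * jj 256 n = _
    rw [jj_eq (by decide), ← mul_sum]
  rw [e1, e2, Int.toNat_natCast] at h4
  have h5 : (d a + 2 ^ 255).toNat &&& (2 ^ 4 - 1) = 0 := land_dig 256 15 (by decide) n _ h2 h4 a ha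
  rw [Nat.and_two_pow_sub_one_eq_mod] at h5
  have := h1 a
  omega

theorem half_of {l : List ℤ} (hl : l.length = 24)
    (h : ∀ s < 24, 16 ∣ dotL ((sel.map fun a => gens.getD a []).getD s []) l) : halfB l = true := by
  obtain ⟨⟨d1, d2, d3⟩, d4, d5, -⟩ := du_ok
  have h1 : ∀ s, ∃ c : ℤ, s < 24 → ∑ i ∈ range 24, en (sel.map fun a => gens.getD a []) s i * l.getD i 0 = 16 * c := fun s => by
    by_cases hs : s < 24
    · obtain ⟨c, hc⟩ := h s hs
      exact ⟨c, fun _ => (sum_range_getD _ _ 24 (sh_le d4 s)).trans hc⟩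
    · exact ⟨0, fun h => absurd h hs⟩
  choose c hc using h1
  have h2 : ∀ i < 24, l.getD i 0 = 2 * ∑ s ∈ range 24, c s * en du s i := fun i hi => by
    refine mul_left_cancel₀ (show (8 : ℤ) ≠ 0 by decide) ?_
    have e2 : ∑ j ∈ range 24, (∑ s ∈ range 24, en du s i * en (sel.map fun a => gens.getD a []) s j) * l.getD j 0 = 8 * l.getD i 0 := by
      rw [sum_eq_single i (fun j hj h => by rw [prd_spec d1 d4 d2 (by decide) d5 hi (mem_range.1 hj), if_neg h.symm, zero_mul])
        (fun h => absurd (mem_range.2 hi) h), prd_spec d1 d4 d2 (by decide) d5 hi hi, if_pos rfl]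
    rw [← e2]
    simp only [sum_mul, mul_sum, mul_assoc]
    rw [sum_comm]
    exact sum_congr rfl fun s hs => by rw [← mul_sum, hc s (mem_range.1 hs)]; ring
  refine Bool.and_eq_true_iff.2 ⟨List.all_eq_true.2 fun r hr => decide_eq_true ?_, leechB_of (by rw [List.length_map, hl]) ?_⟩
  · obtain ⟨i, hi, rfl⟩ := List.getElem_of_mem hr
    rw [← List.getD_eq_getElem _ 0 hi, h2 i (hl ▸ hi)]
    exact Int.mul_emod_right _ _
  · have e3 : vec (l.map fun a => a / 2) = ∑ s ∈ range 24, c s • vec (du.getD s []) := funext fun p => by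
      have hp : GolayBase.idx p < l.length := hl ▸ GolayBase.idx_lt p
      rw [vec_apply, List.getD_eq_getElem _ _ (by rwa [List.length_map]), List.getElem_map, ← List.getD_eq_getElem _ 0 hp,
        h2 _ (GolayBase.idx_lt p), Int.mul_ediv_cancel_left _ (by decide), Finset.sum_apply]
      rfl
    rw [e3]
    exact sum_mem fun s hs => leechLattice.zsmul_mem
      (vec_mem_of_leechB (List.all_eq_true.1 d3 _ (getD_mem_of_lt _ [] (d2 ▸ mem_range.1 hs)))) _

/-- the check for `1 + R + .. + R ^ n` -/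
noncomputable def spq (n : ℕ) (R : List (List ℤ)) (vw : List (List ℤ × List ℤ)) : Bool :=
  Nat.beq R.length 24 && sh R && prs R && Nat.ble n 11 && Nat.ble vw.length 24 && sh (vw.map Prod.fst) && sh (vw.map Prod.snd) &&
    latB vw && (mv (sel.map fun a => gens.getD a []) (rq (lq R (Nat.succ n) (pk (Int.ofNat (Nat.pow 2 256)) gens) []) vw)).all
      fun N => ts1 49 (N / Int.ofNat (Nat.pow 8 (Nat.add n 2)))

theorem spq_spec {n : ℕ} {R : List (List ℤ)} {vw : List (List ℤ × List ℤ)} (h : spq n R vw = true) :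
    (gens.all fun g => halfB (res (tn R (n + 1) g) vw)) = true := by
  simp only [spq, Bool.and_eq_true] at h
  obtain ⟨⟨⟨⟨⟨⟨⟨⟨h1, hR⟩, h3⟩, h4⟩, h5⟩, h6⟩, h7⟩, h8⟩, h9⟩ := h
  have hl := Nat.eq_of_beq_eq_true h1
  have hp := pres_of hl (prs_spec hR h3)
  have d4 := du_ok.2.1
  have hg : ∀ a < 49, Lt (gens.getD a []) := fun a ha =>
    have hm := getD_mem_of_lt gens [] (sh_gens.2 ▸ ha)
    ⟨sh_len sh_gens.1 hm, vec_mem_of_leechB (List.all_eq_true.1 gens_leech _ hm)⟩
  have ht : ∀ a < 49, Lt (tn R (n + 1) (gens.getD a [])) := fun a ha => by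
    refine ⟨?_, (lt_tn hl hp _ (hg a ha)).2⟩
    show (addL _ _).length = 24
    rw [length_addL, (hg a ha).1]
    exact max_eq_left (lt_tn hl hp n (lt_ap hl hp (hg a ha)).1).1
  have p0 : Pq 1 (fun a => gens.getD a []) (pk (Int.ofNat (Nat.pow 2 256)) gens) := fun j hj => by
    rw [(pk_spec _ _ sh_gens.1).2 j hj, sh_gens.2, one_mul, show Int.ofNat (Nat.pow 2 256) = 2 ^ 256 from Nat.cast_pow 2 256]
    rfl
  have p1 : Pq (8 ^ (n + 1)) (fun a => tn R (n + 1) (gens.getD a [])) (lq R (n + 1) (pk (Int.ofNat (Nat.pow 2 256)) gens) []) :=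
    fun j hj => by rw [lq_spec hR hl hp _ [] hg p0 j hj, List.getD_nil, zero_add, one_mul]
  have p2 := rq_spec ht p1 vw h8
  have hb : ∀ a < 49, (res (tn R (n + 1) (gens.getD a [])) vw).length = 24 ∧
      Bd (2 ^ 230) (res (tn R (n + 1) (gens.getD a [])) vw) := fun a ha => by
    obtain ⟨b1, b2⟩ := bd_res (ht a ha).1 (bd_tn hR hl (n + 1) (hg a ha).1 (sh_abs sh_gens.1 a)) vw h6 h7
    refine ⟨b1, fun j => (b2 j).trans ?_⟩
    have b3 : (32768 : ℤ) ^ (n + 1) ≤ 32768 ^ 12 := pow_le_pow_right₀ (by decide) (Nat.succ_le_succ (Nat.le_of_ble_eq_true h4))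
    have b4 : (vw.length : ℤ) ≤ 24 := Int.ofNat_le.2 (Nat.le_of_ble_eq_true h5)
    exact (mul_le_mul (show _ ≤ (1 + 24 * 24000000 : ℤ) by linarith only [b4]) (mul_le_mul_of_nonneg_right b3 (by decide))
      (mul_nonneg (pow_nonneg (by decide) _) (by decide)) (by decide)).trans (by decide)
  refine List.all_eq_true.2 fun g hg' => ?_
  obtain ⟨a, ha, rfl⟩ := List.getElem_of_mem hg'
  rw [← List.getD_eq_getElem _ [] ha]
  rw [sh_gens.2] at ha
  refine half_of (hb a ha).1 fun s hs => ?_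
  have k1 := List.all_eq_true.1 h9 _ (getD_mem_of_lt _ 0 (show s < _ by rw [mv_len, List.length_map]; exact hs))
  rw [mv_get, dot_pq p2 (sh_le d4 s), show Int.ofNat (Nat.pow 8 (Nat.add n 2)) = 8 * 8 ^ (n + 1) from
    (Nat.cast_pow 8 (n + 2)).trans (pow_succ' _ _), Int.mul_ediv_cancel_left _ (by positivity)] at k1
  have k2 := key1 (fun a => if a < 49 then dotL ((sel.map fun a => gens.getD a []).getD s [])
    (res (tn R (n + 1) (gens.getD a [])) vw) else 0) (fun a => by
      split_ifs with ha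
      · exact lt_of_le_of_lt (bd_dot (sh_le d4 s) (hb a ha).2 (sh_abs d4 s)) (by decide)
      · decide) (by rw [sum_congr rfl fun a ha => by rw [if_pos (mem_range.1 ha)]]; exact k1) a ha
  rwa [if_pos ha] at k2

theorem span3 {R : List (List ℤ)} {vw : List (List ℤ × List ℤ)} (h : spq 2 R vw = true) :
    Cfsg.Agent.LThreeMB.Fix.spanB R vw = true := by
  have e : ∀ s : List ℤ, addL s [] = s := fun s => by cases s <;> rfl
  refine (congrArg (fun f => gens.all f) (funext fun g => ?_)).trans (spq_spec h)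
  show halfB (res (addL g (addL (ap R g) (ap R (ap R g)))) vw) = halfB (res (addL g (addL (ap R g) (addL (ap R (ap R g)) []))) vw)
  rw [e]
end

end Cfsg.Agent.LThreeMB.SpanQ

private theorem dce_15fb80a2ff33 : _root_.True := by
  try have : _root_.True := by simp only [_root_.Cfsg.Agent.LThreeMB.SpanQ.tn.eq_1]
  try have : _root_.True := by simp only [_root_.Cfsg.Agent.LThreeMB.SpanQ.tn.eq_def]
  exact _root_.True.intro
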