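import Cfsg.Agent.LThreeMB.Fix
import Cfsg.Agent.LThreeMB.Eight
import Cfsg.Agent.LThreeCo1T8.Main
import Cfsg.Agent.CoOneType.CoAp
import Cfsg.Agent.CoOneType.CoQ
import Cfsg.Agent.LThreeMB.SpanQ
import Cfsg.Agent.FastGrp
import Cfsg.Agent.Prune
set_option linter.all false
prune_inst 0x7f00000000000000000000000000000000000000000000000000000000000000000000000000000000000000000000000000000000000000000000000000000000000000000000000000000000000000003fffffffffffffffffffffffffffbeffbdffffffff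
open scoped Cfsg.Agent.FastGrp

-- part: LThreeMB/CEightData
section
/-!
# The fixed space of the element of type `3^8`: data (helper68)

Generated by a script; checked by the kernel.
-/

set_option autoImplicit false
set_option maxRecDepth 100000

namespace Cfsg.Agent.LThreeMB.CEight

/-- fixed vectors of norm 64 and dual vectors -/
def vw : List (List ℤ × List ℤ) := [
  ([8, 0, 0, 0, 0, 0, 0, 0, 0, 0, 0, 0, 0, 0, 0, 0, 0, 0, 0, 0, 0, 0, 0, 0],
   [1, 1, 1, 1, 1, 1, 1, 1, 1, 1, 1, 1, 1, 1, 1, 1, 1, 1, 1, 1, 1, 1, 1, -3]),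
  ([-2, 2, 2, 0, 0, 0, -2, 0, -2, 2, 0, 0, 2, 2, 0, 0, 0, 0, 4, 0, -2, 2, 2, -2],
   [2, 0, 0, 4, 4, 2, 2, 2, 2, 2, 0, 2, 0, 2, 2, 0, 0, 2, 2, 0, 0, 2, 0, -8]),
  ([0, 0, 2, -2, 0, 2, 0, 0, -2, 0, 2, 2, -2, -2, 0, -4, 2, 2, 0, 0, 0, 2, -2, 0],
   [4, 2, 4, 8, 4, 4, 6, 2, 6, 4, 2, 4, 2, 4, 4, 2, 2, 2, 6, 0, 2, 2, 0, -4]),
  ([-4, 0, 2, 0, 2, 0, 0, -2, 2, 0, 0, 0, -2, 2, 2, -2, 0, 0, 2, -2, 0, 2, -2, 0],
   [4, 2, 2, 4, 4, 4, 6, 4, 4, 6, 0, 4, 4, 4, 2, 2, 4, 2, 4, 2, 0, 4, 0, 0]),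
  ([0, 0, 2, -4, 0, -2, 2, 2, 0, 2, 2, 0, -2, 0, -2, 0, 0, -2, 0, 2, 2, 0, -2, 0],
   [0, 0, 4, 4, 4, 0, 0, 0, 0, 0, 0, 0, 0, 0, 0, 0, 0, 0, 0, 0, 0, 0, 0, -12]),
  ([0, 0, 2, 0, 2, 0, 0, 2, 2, -4, 0, 0, 2, -2, -2, 2, 0, 0, 2, -2, 0, -2, -2, 0],
   [0, 0, 0, 2, 6, 2, 2, 2, 0, 2, 0, 2, 2, 0, 0, 2, 2, 0, 0, 2, 0, 2, 0, -4]),
  ([2, -2, 0, 0, 2, 0, -2, 2, 0, -2, 0, 0, 0, 0, -2, 2, 0, 0, -2, -2, -2, 0, -4, 2],
   [2, 2, 4, 8, 8, 2, 4, 0, 4, 2, 2, 2, 2, 2, 2, 2, 2, 0, 4, 0, 2, 0, 0, -8]),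
  ([-1, -1, 1, 3, -3, -1, 3, 1, 1, -1, -1, -1, 1, 1, -3, 1, -1, -1, -3, 1, -1, 1, 1, -1],
   [2, 2, 2, 6, 6, 0, 2, 0, 2, 2, 0, 0, 2, 2, 0, 0, 2, 0, 2, 0, 0, 0, 0, -8])]

end Cfsg.Agent.LThreeMB.CEight
end

-- part: LThreeMB/CEight
section
/-!
# The element of fixed rank 8 (helper68)

`nine` : the input `CoOne.nine`, from helper15's element `xx`.
-/

set_option autoImplicit false
set_option maxRecDepth 100000

namespace Cfsg.Agent.LThreeMB.CEight

open Cfsg Cfsg.Agent.SporadicA Cfsg.Agent.SporadicStructure.Co0Matrix Cfsg.Agent.CoOneType.CoEval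
open Cfsg.Agent.MonsterU.Lam2 Cfsg.Agent.LThreeMB.Fix
open Cfsg.Agent.LThreeCo1T8 Cfsg.Agent.LThreeCo1T8.Mat
open Cfsg.Spor (Co1)
open Subgroup (centralizer zpowers mem_centralizer_singleton_iff)

theorem lat : latB vw = true := by decide +kernel

theorem fix : fixB rX vw = true := by (delta Cfsg.Agent.LThreeMB.Fix.fixB; rewrite [Cfsg.Agent.CoOneType.CoAp.ap_F]; decide +kernel)

theorem dual : dualB vw = true := by (delta Cfsg.Agent.LThreeMB.Fix.dualB; rewrite [Cfsg.Agent.CoOneType.CoQ.dotL_F]; decide +kernel)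

theorem span : spanB rX vw = true := by exact Cfsg.Agent.LThreeMB.SpanQ.span3 (by decide +kernel)

theorem four : fourB vw = true := by (delta Cfsg.Agent.LThreeMB.Fix.fourB; rewrite [Cfsg.Agent.CoOneType.CoQ.dotL_F]; decide +kernel)

theorem repX : Rep Mono.x8 rX := by
  have h := rep_mk okX
  rwa [Main.x_eq] at h

theorem fr_xx : fr Main.xx = 2 ^ 8 := card_fix repX lat fix dual span

theorem genFour : GenFour Main.xx := fun W hW v hv =>
  mem_of_fix repX lat span (fun j => hW _ (smul_vv repX lat fix j) (type_four lat four j)) hv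

/-! ### The structure of the centralizer -/

theorem mem_sup {G : Type*} [Group G] {A : Subgroup G} {x g : G} (hA : A ≤ centralizer {x})
    (hg : g ∈ A ⊔ zpowers x) : ∃ a ∈ A, ∃ i : ℤ, g = a * x ^ i := by
  let D : Subgroup G :=
    { carrier := {g | ∃ a ∈ A, ∃ i : ℤ, g = a * x ^ i}
      one_mem' := ⟨1, A.one_mem, 0, by simp⟩
      mul_mem' := by
        rintro _ _ ⟨a, ha, i, rfl⟩ ⟨b, hb, j, rfl⟩
        have hc : Commute b (x ^ i) :=
          (show Commute b x from mem_centralizer_singleton_iff.1 (hA hb)).zpow_right i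
        exact ⟨a * b, A.mul_mem ha hb, i + j, by rw [mul_assoc, ← mul_assoc (x ^ i), ← hc.eq, zpow_add]; group⟩
      inv_mem' := by
        rintro _ ⟨a, ha, i, rfl⟩
        have hc : Commute a (x ^ i) :=
          (show Commute a x from mem_centralizer_singleton_iff.1 (hA ha)).zpow_right i
        exact ⟨a⁻¹, A.inv_mem ha, -i, by rw [hc.eq, mul_inv_rev, zpow_neg]⟩ }
  have h : A ⊔ zpowers x ≤ D := sup_le (fun a ha => ⟨a, ha, 0, by simp⟩)
    (Subgroup.zpowers_le.2 ⟨1, A.one_mem, 1, by simp⟩)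
  exact h hg

theorem exists_XX {G : Type*} [Group G] {A : Subgroup G} {x : G} (hA : A ≤ centralizer {x})
    (hi : A ⊓ zpowers x = ⊥) (hs : A ⊔ zpowers x = centralizer {x}) : Nonempty (XX x ≃* ↥A) := by
  let f : ↥A →* XX x := (QuotientGroup.mk' (Zx x)).comp (Subgroup.inclusion hA)
  have hf : ∀ a : ↥A, f a = mk x (mem_centralizer_singleton_iff.1 (hA a.2)) := fun _ => rfl
  refine ⟨(MulEquiv.ofBijective f ⟨?_, ?_⟩).symm⟩
  · rw [injective_iff_map_eq_one]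
    intro a ha
    rw [hf] at ha
    obtain ⟨i, hi'⟩ := (mk_eq_one _).1 ha
    have : (a : G) ∈ A ⊓ zpowers x := ⟨a.2, ⟨i, hi'⟩⟩
    rw [hi, Subgroup.mem_bot] at this
    exact Subtype.ext this
  · intro u
    obtain ⟨g, hg, rfl⟩ := exists_mk u
    obtain ⟨a, ha, i, hgi⟩ := mem_sup hA (by rw [hs]; exact mem_centralizer_singleton_iff.2 hg)
    refine ⟨⟨a, ha⟩, ?_⟩
    rw [hf]
    have h1 : mk x hg = mk x (mem_centralizer_singleton_iff.1 (hA ha)) * QuotientGroup.mk (self x ^ i) := by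
      rw [mk, mk, ← QuotientGroup.mk_mul]
      congr 1
      exact Subtype.ext hgi
    have h2 : (QuotientGroup.mk (self x ^ i) : XX x) = 1 :=
      (QuotientGroup.eq_one_iff _).2 (Subgroup.zpow_mem _ (Subgroup.mem_zpowers _) _)
    rw [h1, h2, mul_one]

theorem ss_mem : Main.ss ∈ Main.AA := by
  rw [Main.AA, Lib.AltCarmichael.gen_def]
  refine Subgroup.subset_closure ⟨0, by norm_num, ?_⟩
  show Main.ss = Main.gg ^ 0 * Main.ss * (Main.gg ^ 0)⁻¹
  rw [pow_zero, one_mul, inv_one, mul_one]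

/-- the first vector -/
def i0 : Fin vw.length := ⟨0, by decide⟩

@[inherit_doc i0] def i3 : Fin vw.length := ⟨3, by decide⟩

/-- a fixed vector moved by `ss` -/
theorem moved : Main.ss • vv vw i0 ≠ vv vw i0 := by
  have h1 : leechB (vw.get i0).1 = true := (lat_spec lat (List.get_mem vw i0)).1
  have h2 : leechB (ap rS (vw.get i0).1) = true := by (rewrite [Cfsg.Agent.CoOneType.CoAp.ap_F]; decide +kernel)
  have h3 : Main.ss • vv vw i0 = cl (el (ap rS (vw.get i0).1)) := smul_el (Mat.rep 0) h1 h2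
  rw [h3]
  exact cl_el_ne h2 h1 ((lat_spec lat (List.get_mem vw i3)).2) (by (rewrite [Cfsg.Agent.CoOneType.CoAp.ap_F, Cfsg.Agent.CoOneType.CoQ.dotL_F]; decide +kernel))

theorem faith : Faith Main.xx := by
  intro g hg hv
  have hgC : g ∈ Main.AA ⊔ zpowers Main.xx := by
    rw [Main.sup_eq]; exact mem_centralizer_singleton_iff.2 hg
  obtain ⟨a, ha, i, rfl⟩ := mem_sup Main.AA_le hgC
  have hxi : ∀ (i : ℤ) (v : L2), Main.xx • v = v → Main.xx ^ i • v = v := by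
    intro i v hv
    have : Main.xx ^ i ∈ MulAction.stabilizer Co1 v :=
      Subgroup.zpow_mem _ (MulAction.mem_stabilizer_iff.2 hv) i
    exact this
  have hav : ∀ v : L2, Main.xx • v = v → a • v = v := by
    intro v hx
    have := hv v hx
    rwa [mul_smul, hxi i v hx] at this
  let K : Subgroup ↥Main.AA :=
    { carrier := {b | ∀ v : L2, Main.xx • v = v → (b : Co1) • v = v}
      one_mem' := fun v _ => one_smul _ v
      mul_mem' := fun {b c} hb hc v hx => by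
        rw [Subgroup.coe_mul, mul_smul, hc v hx, hb v hx]
      inv_mem' := fun {b} hb v hx => by
        rw [Subgroup.coe_inv, inv_smul_eq_iff]; exact (hb v hx).symm }
  have hK : K.Normal := ⟨fun b hb c v hx => by
    rw [Subgroup.coe_mul, Subgroup.coe_mul, Subgroup.coe_inv, mul_smul, mul_smul]
    have hc : Main.xx • ((c : Co1)⁻¹ • v) = (c : Co1)⁻¹ • v := by
      have h1 : (c : Co1) * Main.xx = Main.xx * c := mem_centralizer_singleton_iff.1 (Main.AA_le c.2)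
      have h2 : Main.xx * (c : Co1)⁻¹ = (c : Co1)⁻¹ * Main.xx := by
        rw [mul_inv_eq_iff_eq_mul, mul_assoc, ← h1, inv_mul_cancel_left]
      rw [← mul_smul, h2, mul_smul, hx]
    rw [hb _ hc, smul_inv_smul]⟩
  rcases Main.simple_AA.eq_bot_or_eq_top_of_normal K hK with h | h
  · have : (⟨a, ha⟩ : ↥Main.AA) ∈ K := hav
    rw [h, Subgroup.mem_bot] at this
    have ha1 : a = 1 := congrArg Subtype.val this
    rw [ha1, one_mul]
    exact ⟨i, rfl⟩
  · exfalso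
    have : (⟨Main.ss, ss_mem⟩ : ↥Main.AA) ∈ K := by rw [h]; trivial
    exact moved (this _ (smul_vv repX lat fix i0))

/-- **The input on the class of fixed rank 8.** -/
theorem nine : ∃ s : Co1, orderOf s = 3 ∧ fr s = 2 ^ 8 ∧ Nonempty (XX s ≃* ↥(alternatingGroup (Fin 9))) ∧
    GenFour s ∧ Faith s := by
  obtain ⟨e⟩ := exists_XX Main.AA_le Main.inf_eq Main.sup_eq
  obtain ⟨f⟩ := Main.nonempty_equiv
  exact ⟨Main.xx, Main.order_x, fr_xx, ⟨e.trans f⟩, genFour, faith⟩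

end Cfsg.Agent.LThreeMB.CEight
end
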