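import Cfsg.Agent.LThreeMB.Six
set_option linter.all false

/-!
# `C_G(x)`, `x` of order 3 commuting with `z`: assembly (helper68)

`Good S` : `S` is a non-abelian simple group on the `C_3` list, not an exception.  `comps_all` : `Comps 3 C_G(x)` for every `x`
of order 3 in `C(z)`, from the facts for the four fixed ranks.
-/

set_option autoImplicit false

namespace Cfsg.Agent.LThreeMB

open Cfsg Cfsg.Agent.MonsterU Cfsg.Agent.LThree
open Cfsg.Agent.MonsterU.Ch
open Cfsg.Agent.MonsterU.Lam2 (L2)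
open Cfsg.Spor (Co1)
open Subgroup (centralizer zpowers mem_centralizer_singleton_iff)

universe u v

/-- What we use of the simple groups on the `C_3` list. -/
structure Good (S : Type v) [Group S] : Prop where
  simple : IsSimpleGroup S
  even : Even (Nat.card S)
  list : IsCpSimple 3 S
  exc : ∀ (K : Type u) [Group K], IsCpException 3 K → ¬ Nonempty (K ⧸ Subgroup.center K ≃* S)
  nc : Subgroup.center S ≠ ⊤

/-- `C(x) / ⟨x⟩` good. -/
theorem comps_of_good {G : Type u} [Group G] [Finite G] {x : G} (h : Good.{u} (XX x)) :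
    Comps 3 ↥(centralizer ({x} : Set G)) := by
  refine ZStar.comps_of_hom Nat.prime_three h.simple (QuotientGroup.mk' (Zx x)) (QuotientGroup.mk'_surjective _) ?_
    h.list h.exc
  rw [QuotientGroup.ker_mk']
  exact Group.isSolvable_of_comm fun a b => by
    obtain ⟨a, ha⟩ := a
    obtain ⟨b, hb⟩ := b
    obtain ⟨i, rfl⟩ := Subgroup.mem_zpowers_iff.1 ha
    obtain ⟨j, rfl⟩ := Subgroup.mem_zpowers_iff.1 hb
    exact Subtype.ext (by
      show self x ^ i * self x ^ j = self x ^ j * self x ^ i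
      rw [← zpow_add, ← zpow_add, add_comm])

variable {G : Type u} [Group G] {Q : Subgroup G} {z : G} {eta : G → L2}
  {pi : Subgroup.centralizer ({z} : Set G) →* Co1}

/-- A pair `x₀`, `u` of `C(z)`: `x₀` of fixed rank 0, `u ≠ z` a conjugate of `z` commuting with `x₀` and `z`. -/
def HasPair {G : Type u} [Group G] (z : G) (pi : Subgroup.centralizer ({z} : Set G) →* Co1) : Prop :=
  ∃ (x₀ : Subgroup.centralizer ({z} : Set G)) (u g : G), orderOf x₀ = 3 ∧ fr (pi x₀) = 1 ∧ u * z = z * u ∧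
    (x₀ : G) * u = u * x₀ ∧ u ≠ z ∧ g * z * g⁻¹ = u

/-- **All `x` of order 3 in `C(z)`.** -/
theorem comps_all (FT : ∀ (K : Type u) [Group K] [Finite K], Odd (Nat.card K) → Group.IsSolvable K) [Finite G]
    (h : Chart Q z eta pi) (ht : TrNe z pi)
    (hC : ∀ s : Co1, orderOf s = 3 → fr s = 1 ∨ fr s = 2 ^ 6 ∨ fr s = 2 ^ 8 ∨ fr s = 2 ^ 12)
    (hcl : ClassOf (2 ^ 6)) (h0 : ∀ s : Co1, orderOf s = 3 → fr s = 1 → Good.{u} (XX s))
    (h812 : ∀ x : Subgroup.centralizer ({z} : Set G), orderOf x = 3 → (fr (pi x) = 2 ^ 8 ∨ fr (pi x) = 2 ^ 12) →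
      Good.{u} (XX (x : G)))
    (hp : HasPair z pi) {x : Subgroup.centralizer ({z} : Set G)} (hx : orderOf x = 3) :
    Comps 3 ↥(centralizer ({(x : G)} : Set G)) := by
  have zero : ∀ x : Subgroup.centralizer ({z} : Set G), orderOf x = 3 → fr (pi x) = 1 →
      Comps 3 ↥(centralizer ({(x : G)} : Set G)) := by
    intro x hx hfr
    have hg := h0 (pi x) (orderOf_pi h hx) hfr
    exact comps_zero FT h (by rw [← hx, pow_orderOf_eq_one]) (fun d hd hc => isolated h ht hx hfr d hd hc)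
      hg.simple hg.even hg.list hg.exc
  rcases hC (pi x) (orderOf_pi h hx) with h1 | h1 | h1
  · exact zero x hx h1
  · obtain ⟨x₀, u, g, hx₀, hfr₀, huz, hux, hne, hg⟩ := hp
    obtain ⟨k, hk⟩ := conj_six h ht hC hcl (fun x hx h2 => ⟨(h812 x hx h2).simple, (h812 x hx h2).nc⟩) hx₀ hfr₀ huz hux
      hne hg hx h1
    obtain ⟨⟨e⟩, -⟩ := exists_XX_equiv hk
    exact (zero x₀ hx₀ hfr₀).congr e.symm
  · exact comps_of_good (h812 x hx h1)

end Cfsg.Agent.LThreeMB
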