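import Cfsg.Agent.LThreeMB.Fus
set_option linter.all false

/-!
# The quotient `C_G(x) / ⟨x⟩` (helper68)

`G` has a chart `Q = 2^{1+24}`, `C(z)/Q = Co1`; `x` is an element of order 3 centralising `z` such that the kernel of
`C_{Co1}(pi x)` on the fixed points of `pi x` is `⟨pi x⟩` (`Faith`).  Then `C_Q(x)` is large in `X = C_G(x) / ⟨x⟩` (`large`)
and `C_X(z) / C_Q(x) = C_{Co1}(pi x) / ⟨pi x⟩` (`exists_rho`).
-/

set_option autoImplicit false

namespace Cfsg.Agent.LThreeMB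

open Cfsg Cfsg.Agent.MonsterU
open Cfsg.Agent.MonsterU.Ch
open Cfsg.Agent.MonsterU.Lam2 (L2 bf bf_nondeg bf_comm)
open Cfsg.Agent.Co2Type.Quad
open Cfsg.Spor (Co1)
open Subgroup (centralizer zpowers mem_centralizer_singleton_iff)

section basic

variable {G : Type*} [Group G]

/-- `x` as an element of its centralizer -/
def self (x : G) : ↥(centralizer ({x} : Set G)) := ⟨x, mem_centralizer_singleton_iff.2 rfl⟩

/-- `⟨x⟩` as a subgroup of `C(x)` -/
def Zx (x : G) : Subgroup ↥(centralizer ({x} : Set G)) := zpowers (self x)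

theorem self_mem_center (x : G) : self x ∈ Subgroup.center ↥(centralizer ({x} : Set G)) := by
  rw [Subgroup.mem_center_iff]
  intro g
  exact Subtype.ext (mem_centralizer_singleton_iff.1 g.2)

theorem Zx_le_center (x : G) : Zx x ≤ Subgroup.center ↥(centralizer ({x} : Set G)) := by
  rw [Zx, Subgroup.zpowers_le]
  exact self_mem_center x

instance Zx_normal (x : G) : (Zx x).Normal where
  conj_mem := by
    intro n hn g
    have h1 := Subgroup.mem_center_iff.1 (Zx_le_center x hn) g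
    rw [h1, mul_inv_cancel_right]
    exact hn

/-- `C(x) / ⟨x⟩` -/
abbrev XX (x : G) : Type _ := ↥(centralizer ({x} : Set G)) ⧸ Zx x

/-- the image of an element commuting with `x` -/
def mk (x : G) {g : G} (hg : g * x = x * g) : XX x := QuotientGroup.mk ⟨g, mem_centralizer_singleton_iff.2 hg⟩

theorem exists_mk {x : G} (u : XX x) : ∃ (g : G) (hg : g * x = x * g), mk x hg = u := by
  obtain ⟨g, rfl⟩ := QuotientGroup.mk_surjective u
  exact ⟨g, mem_centralizer_singleton_iff.1 g.2, rfl⟩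

theorem mk_eq_one {x g : G} (hg : g * x = x * g) : mk x hg = 1 ↔ ∃ i : ℤ, x ^ i = g := by
  rw [mk, QuotientGroup.eq_one_iff, Zx, Subgroup.mem_zpowers_iff]
  constructor
  · rintro ⟨i, hi⟩
    exact ⟨i, congrArg Subtype.val hi⟩
  · rintro ⟨i, hi⟩
    exact ⟨i, Subtype.ext hi⟩

theorem mk_mul {x g k : G} (hg : g * x = x * g) (hk : k * x = x * k) (hgk : (g * k) * x = x * (g * k)) :
    mk x hg * mk x hk = mk x hgk := rfl

theorem mk_one (x : G) : mk x (g := 1) (by rw [one_mul, mul_one]) = 1 := rfl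

theorem mk_inv {x g : G} (hg : g * x = x * g) (hg' : g⁻¹ * x = x * g⁻¹) : (mk x hg)⁻¹ = mk x hg' := rfl

theorem mk_congr {x g k : G} (hg : g * x = x * g) (hk : k * x = x * k) (h : g = k) : mk x hg = mk x hk := by
  subst h; rfl

theorem mk_eq_mk {x g k : G} (hg : g * x = x * g) (hk : k * x = x * k) :
    mk x hg = mk x hk ↔ ∃ i : ℤ, g * x ^ i = k := by
  have h1 : g⁻¹ * x = x * g⁻¹ := by rw [eq_mul_inv_iff_mul_eq, mul_assoc, ← hg]; group
  have h2 : (g⁻¹ * k) * x = x * (g⁻¹ * k) := by rw [mul_assoc, hk, ← mul_assoc, h1, mul_assoc]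
  have h3 : (mk x hg)⁻¹ * mk x hk = mk x h2 := rfl
  rw [← inv_mul_eq_one, h3, mk_eq_one]
  constructor
  · rintro ⟨i, hi⟩
    exact ⟨i, by rw [hi]; group⟩
  · rintro ⟨i, hi⟩
    exact ⟨i, by rw [← hi]; group⟩

theorem conj_comm {x g k : G} (hg : g * x = x * g) (hk : k * x = x * k) : (g * k * g⁻¹) * x = x * (g * k * g⁻¹) := by
  have h1 : g⁻¹ * x = x * g⁻¹ := by rw [eq_mul_inv_iff_mul_eq, mul_assoc, ← hg]; group
  calc (g * k * g⁻¹) * x = g * k * (g⁻¹ * x) := by group
    _ = g * (k * x) * g⁻¹ := by rw [h1]; group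
    _ = (g * x) * k * g⁻¹ := by rw [hk]; group
    _ = x * (g * k * g⁻¹) := by rw [hg]; group

/-- `ρ` with `ρ ∘ α = β` -/
theorem exists_fac {A B C : Type*} [Group A] [Group B] [Group C] (α : A →* B) (hα : Function.Surjective α)
    (β : A →* C) (hk : ∀ a, α a = 1 → β a = 1) : ∃ ρ : B →* C, ∀ a, ρ (α a) = β a := by
  refine ⟨(QuotientGroup.lift α.ker β (fun a ha => hk a ha)).comp
    (QuotientGroup.quotientKerEquivOfSurjective α hα).symm.toMonoidHom, fun a => ?_⟩
  have h1 : (QuotientGroup.quotientKerEquivOfSurjective α hα).symm (α a) = QuotientGroup.mk a := by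
    rw [MulEquiv.symm_apply_eq]
    rfl
  show QuotientGroup.lift α.ker β (fun a ha => hk a ha)
    ((QuotientGroup.quotientKerEquivOfSurjective α hα).symm (α a)) = β a
  rw [h1]
  rfl

end basic

section chart

variable {G : Type*} [Group G] {Q : Subgroup G} {z : G} {eta : G → L2}
  {pi : Subgroup.centralizer ({z} : Set G) →* Co1}

/-- the kernel of `C_{Co1}(s)` on the fixed points of `s` is `⟨s⟩` -/
def Faith (s : Co1) : Prop :=
  ∀ g : Co1, g * s = s * g → (∀ v : L2, s • v = v → g • v = v) → g ∈ Subgroup.zpowers s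

theorem Faith.conj {s : Co1} (h : Faith s) (k : Co1) : Faith (k * s * k⁻¹) := by
  intro g hg hv
  have h1 : (k⁻¹ * g * k) * s = s * (k⁻¹ * g * k) := by
    calc (k⁻¹ * g * k) * s = k⁻¹ * (g * (k * s * k⁻¹)) * k := by group
      _ = k⁻¹ * ((k * s * k⁻¹) * g) * k := by rw [hg]
      _ = s * (k⁻¹ * g * k) := by group
  obtain ⟨i, hi⟩ := h _ h1 (fun v hsv => by
    rw [mul_smul, mul_smul, hv (k • v) (by rw [mul_smul, mul_smul, inv_smul_smul, hsv]), inv_smul_smul])
  have hi : s ^ i = k⁻¹ * g * k := hi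
  refine ⟨i, ?_⟩
  show (k * s * k⁻¹) ^ i = g
  rw [conj_zpow, hi]; group

theorem eq_one_of_mem (h : Chart Q z eta pi) {x : Subgroup.centralizer ({z} : Set G)} (hx : x ^ 3 = 1) {g : G}
    (hg : g ∈ Q) (hgx : ∃ i : ℤ, (x : G) ^ i = g) : g = 1 := by
  obtain ⟨i, rfl⟩ := hgx
  have h3 : (x : G) ^ 3 = 1 := by exact_mod_cast congrArg Subtype.val hx
  have h4 : ((x : G) ^ i) ^ 3 = 1 := by
    rw [← zpow_natCast, ← zpow_mul, mul_comm, zpow_mul, zpow_natCast, h3, one_zpow]
  have h5 : ((x : G) ^ i) ^ 4 = 1 := by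
    rcases h.large.sq _ hg with h5 | h5
    · calc ((x : G) ^ i) ^ 4 = ((x : G) ^ i * (x : G) ^ i) * ((x : G) ^ i * (x : G) ^ i) := by group
        _ = 1 := by rw [h5, one_mul]
    · calc ((x : G) ^ i) ^ 4 = ((x : G) ^ i * (x : G) ^ i) * ((x : G) ^ i * (x : G) ^ i) := by group
        _ = 1 := by rw [h5, h.large.z_sq]
  calc (x : G) ^ i = ((x : G) ^ i) ^ 4 * (((x : G) ^ i) ^ 3)⁻¹ := by group
    _ = 1 := by rw [h4, h5, one_mul, inv_one]

/-- the image of `z` in `C(x) / ⟨x⟩` -/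
def tt (x : Subgroup.centralizer ({z} : Set G)) : XX (x : G) :=
  mk (x : G) (g := z) (mem_centralizer_singleton_iff.1 x.2).symm

/-- `C_Q(x)` -/
def PP (Q : Subgroup G) (x : G) : Subgroup G := Q ⊓ centralizer ({x} : Set G)

theorem mem_PP {x g : G} : g ∈ PP Q x ↔ g ∈ Q ∧ g * x = x * g := by
  rw [PP, Subgroup.mem_inf, mem_centralizer_singleton_iff]

/-- the image of `C_Q(x)` in `C(x) / ⟨x⟩` -/
def PB (Q : Subgroup G) (x : G) : Subgroup (XX x) :=
  ((PP Q x).subgroupOf (centralizer ({x} : Set G))).map (QuotientGroup.mk' (Zx x))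

theorem mem_PB {x : G} {u : XX x} : u ∈ PB Q x ↔ ∃ (g : G) (hg : g * x = x * g), g ∈ Q ∧ mk x hg = u := by
  constructor
  · rintro ⟨g, hg, rfl⟩
    have h1 := mem_PP.1 (Subgroup.mem_subgroupOf.1 hg)
    exact ⟨g, h1.2, h1.1, rfl⟩
  · rintro ⟨g, hg, hgQ, rfl⟩
    exact ⟨⟨g, mem_centralizer_singleton_iff.2 hg⟩, Subgroup.mem_subgroupOf.2 (mem_PP.2 ⟨hgQ, hg⟩), rfl⟩

/-- an element commuting with `z` modulo `⟨x⟩` commutes with `z` -/
theorem comm_z_of_comm (h : Chart Q z eta pi) {x : Subgroup.centralizer ({z} : Set G)} (hx : x ^ 3 = 1) {g : G}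
    (hg : g * (x : G) = x * g) (hgt : mk (x : G) hg * tt x = tt x * mk (x : G) hg) : g * z = z * g := by
  have hxz : z * (x : G) = x * z := (mem_centralizer_singleton_iff.1 x.2).symm
  have h1 : (g * z) * (x : G) = x * (g * z) := by rw [mul_assoc, hxz, ← mul_assoc, hg, mul_assoc]
  have h2 : (z * g) * (x : G) = x * (z * g) := by rw [mul_assoc, hg, ← mul_assoc, hxz, mul_assoc]
  have h3 : mk (x : G) h2 = mk (x : G) h1 := by
    rw [← mk_mul hg hxz, ← mk_mul hxz hg]
    exact hgt.symm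
  obtain ⟨i, hi⟩ := (mk_eq_mk h2 h1).1 h3
  -- `z^g = z x^i` is an involution
  set w := (x : G) ^ i with hw
  have hwx : w * (x : G) = x * w := by rw [hw, ← zpow_add_one, ← zpow_one_add, add_comm]
  have hwz : w * z = z * w := by
    have : Commute (x : G) z := hxz.symm
    exact (this.zpow_left i)
  have hwg : w * g = g * w := by
    have : Commute (x : G) g := hg.symm
    exact (this.zpow_left i)
  have h4 : g * z * g⁻¹ = z * w := by
    rw [← hi, mul_assoc z g w, ← hwg]; group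
  have h5 : w * w = 1 := by
    have e1 : (g * z * g⁻¹) * (g * z * g⁻¹) = 1 := by
      calc (g * z * g⁻¹) * (g * z * g⁻¹) = g * (z * z) * g⁻¹ := by group
        _ = 1 := by rw [h.large.z_sq]; group
    rw [h4] at e1
    calc w * w = (z * z) * (w * w) := by rw [h.large.z_sq, one_mul]
      _ = z * (z * w) * w := by group
      _ = z * (w * z) * w := by rw [hwz]
      _ = (z * w) * (z * w) := by group
      _ = 1 := e1
  have h3' : (x : G) ^ 3 = 1 := by exact_mod_cast congrArg Subtype.val hx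
  have h6 : w ^ 3 = 1 := by
    rw [hw, ← zpow_natCast, ← zpow_mul, mul_comm, zpow_mul, zpow_natCast, h3', one_zpow]
  have h7 : w = 1 := by
    calc w = w ^ 3 * (w * w)⁻¹ := by group
      _ = 1 := by rw [h5, h6, one_mul, inv_one]
  rw [h7, mul_one] at hi
  exact hi.symm

/-- `C_Q(x)` maps onto the fixed points of `pi x`. -/
theorem exists_fix (h : Chart Q z eta pi) {x : Subgroup.centralizer ({z} : Set G)} (hx : x ^ 3 = 1) {v : L2}
    (hv : pi x • v = v) : ∃ w ∈ Q, w * (x : G) = x * w ∧ eta w = v := by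
  obtain ⟨w, hw, rfl⟩ := h.eta_surj v
  exact ⟨w, hw, ((comm_iff_fix h hx hw).2 hv).symm, rfl⟩

/-- the centre of `C_Q(x)` -/
theorem cent_PP (h : Chart Q z eta pi) {x : Subgroup.centralizer ({z} : Set G)} (hx : x ^ 3 = 1) {p : G} (hp : p ∈ Q)
    (hpx : p * (x : G) = x * p) (hc : ∀ w ∈ Q, w * (x : G) = x * w → p * w = w * p) : p = 1 ∨ p = z := by
  rw [← h.eta_zero p hp]
  refine bf_nondeg fun v => ?_
  have hs : pi x ^ 3 = 1 := by rw [← map_pow, hx, map_one]
  have h3 : ∀ v : L2, sm (pi x) (sm (pi x) (sm (pi x) v)) = v := fun v => by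
    show pi x • pi x • pi x • v = v
    rw [← mul_smul, ← mul_smul, ← pow_three', hs, one_smul]
  have hfix : pi x • eta p = eta p := (comm_iff_fix h hx hp).1 hpx.symm
  have h1 := Lin.b_tr bL (sm (pi x)) (fun v w => Lam2.bf_smul1 (pi x) v w) (v := eta p) hfix v
  rw [bL_apply, bL_apply] at h1
  rw [← h1]
  obtain ⟨w, hw, hwx, hwv⟩ := exists_fix h hx (v := Lin.tr (sm (pi x)) v) (Lin.s_tr (sm (pi x)) h3 v)
  rw [← hwv]
  exact (h.comm_iff hp hw).1 (hc w hw hwx)

/-- **`C_Q(x)` is large in `C(x) / ⟨x⟩`.** -/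
theorem large (h : Chart Q z eta pi) {x : Subgroup.centralizer ({z} : Set G)} (hx : x ^ 3 = 1) (hf : Faith (pi x)) :
    Large (PB Q (x : G)) (tt x) where
  z_mem := mem_PB.2 ⟨z, _, h.large.z_mem, rfl⟩
  z_ne := by
    intro h1
    obtain hi := (mk_eq_one _).1 h1
    exact h.large.z_ne (eq_one_of_mem h hx h.large.z_mem hi)
  z_sq := by
    have hxz : z * (x : G) = x * z := (mem_centralizer_singleton_iff.1 x.2).symm
    have : tt x * tt x = mk (x : G) (g := z * z) (by rw [h.large.z_sq, one_mul, mul_one]) := rfl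
    rw [this, mk_congr _ (by rw [one_mul, mul_one]) h.large.z_sq]
    rfl
  comm_z := by
    intro u hu
    obtain ⟨g, hg, hgQ, rfl⟩ := mem_PB.1 hu
    have hxz : z * (x : G) = x * z := (mem_centralizer_singleton_iff.1 x.2).symm
    rw [tt, mk_mul hg hxz (by rw [mul_assoc, hxz, ← mul_assoc, hg, mul_assoc]),
      mk_mul hxz hg (by rw [mul_assoc, hg, ← mul_assoc, hxz, mul_assoc])]
    exact mk_congr _ _ (h.large.comm_z g hgQ)
  conj_mem := by
    intro u hut v hv
    obtain ⟨k, hk, rfl⟩ := exists_mk u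
    obtain ⟨g, hg, hgQ, rfl⟩ := mem_PB.1 hv
    have hkz := comm_z_of_comm h hx hk hut
    exact mem_PB.2 ⟨k * g * k⁻¹, conj_comm hk hg, h.large.conj_mem k hkz g hgQ, rfl⟩
  sq := by
    intro u hu
    obtain ⟨g, hg, hgQ, rfl⟩ := mem_PB.1 hu
    have h0 : (g * g) * (x : G) = x * (g * g) := by rw [mul_assoc, hg, ← mul_assoc, hg, mul_assoc]
    rw [mk_mul hg hg h0]
    rcases h.large.sq g hgQ with h1 | h1
    · left; rw [mk_congr h0 (by rw [one_mul, mul_one]) h1]; rfl
    · right; exact mk_congr _ _ h1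
  comm := by
    intro u hu v hv
    obtain ⟨g, hg, hgQ, rfl⟩ := mem_PB.1 hu
    obtain ⟨k, hk, hkQ, rfl⟩ := mem_PB.1 hv
    have h0 : (g * k) * (x : G) = x * (g * k) := by rw [mul_assoc, hk, ← mul_assoc, hg, mul_assoc]
    have h1 : (k * g) * (x : G) = x * (k * g) := by rw [mul_assoc, hg, ← mul_assoc, hk, mul_assoc]
    have hxz : z * (x : G) = x * z := (mem_centralizer_singleton_iff.1 x.2).symm
    rw [mk_mul hg hk h0, mk_mul hk hg h1]
    rcases h.large.comm g hgQ k hkQ with h2 | h2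
    · left; exact mk_congr _ _ h2
    · right; rw [tt, mk_mul h1 hxz (by rw [mul_assoc, hxz, ← mul_assoc, h1, mul_assoc])]
      exact mk_congr _ _ h2
  cent := by
    intro u hu hc
    obtain ⟨g, hg, hgQ, rfl⟩ := mem_PB.1 hu
    have key : ∀ w ∈ Q, w * (x : G) = x * w → g * w = w * g := by
      intro w hw hwx
      have h0 : (g * w) * (x : G) = x * (g * w) := by rw [mul_assoc, hwx, ← mul_assoc, hg, mul_assoc]
      have h1 : (w * g) * (x : G) = x * (w * g) := by rw [mul_assoc, hg, ← mul_assoc, hwx, mul_assoc]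
      have h2 := hc _ (mem_PB.2 ⟨w, hwx, hw, rfl⟩)
      rw [mk_mul hg hwx h0, mk_mul hwx hg h1] at h2
      obtain ⟨i, hi⟩ := (mk_eq_mk h0 h1).1 h2
      have h3 : (x : G) ^ i ∈ Q := by
        have : (x : G) ^ i = (g * w)⁻¹ * (w * g) := by rw [← hi]; group
        rw [this]
        exact Q.mul_mem (Q.inv_mem (Q.mul_mem hgQ hw)) (Q.mul_mem hw hgQ)
      rw [eq_one_of_mem h hx h3 ⟨i, rfl⟩, mul_one] at hi
      exact hi
    rcases cent_PP h hx hgQ hg key with h1 | h1
    · left; rw [mk_congr hg (by rw [one_mul, mul_one]) h1]; rfl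
    · right; exact mk_congr _ _ h1
  self := by
    intro u hut hc
    obtain ⟨g, hg, rfl⟩ := exists_mk u
    have hgz := comm_z_of_comm h hx hg hut
    have key : ∀ w ∈ Q, w * (x : G) = x * w → g * w * g⁻¹ = w := by
      intro w hw hwx
      have h0 : (g * w) * (x : G) = x * (g * w) := by rw [mul_assoc, hwx, ← mul_assoc, hg, mul_assoc]
      have h1 : (w * g) * (x : G) = x * (w * g) := by rw [mul_assoc, hg, ← mul_assoc, hwx, mul_assoc]
      have h2 := hc _ (mem_PB.2 ⟨w, hwx, hw, rfl⟩)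
      rw [mk_mul hg hwx h0, mk_mul hwx hg h1] at h2
      obtain ⟨i, hi⟩ := (mk_eq_mk h0 h1).1 h2
      have hcg : Commute ((x : G) ^ i) g := (show Commute (x : G) g from hg.symm).zpow_left i
      have hcw : Commute ((x : G) ^ i) w := (show Commute (x : G) w from hwx.symm).zpow_left i
      have h4 : g * w * g⁻¹ = w * ((x : G) ^ i)⁻¹ := by
        calc g * w * g⁻¹ = (g * w * (x : G) ^ i) * ((x : G) ^ i)⁻¹ * g⁻¹ := by group
          _ = w * g * (((x : G) ^ i)⁻¹ * g⁻¹) := by rw [hi]; group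
          _ = w * g * (g⁻¹ * ((x : G) ^ i)⁻¹) := by rw [hcg.inv_inv.eq]
          _ = w * ((x : G) ^ i)⁻¹ := by group
      have h5 : (x : G) ^ (-i) ∈ Q := by
        have : (x : G) ^ (-i) = w⁻¹ * (g * w * g⁻¹) := by rw [h4]; group
        rw [this]
        exact Q.mul_mem (Q.inv_mem hw) (h.large.conj_mem g hgz w hw)
      have h6 := eq_one_of_mem h hx h5 ⟨-i, rfl⟩
      rw [zpow_neg] at h6
      rw [h4, h6, mul_one]
    have hgc : g ∈ centralizer ({z} : Set G) := mem_centralizer_singleton_iff.2 hgz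
    have h1 : pi ⟨g, hgc⟩ * pi x = pi x * pi ⟨g, hgc⟩ := by
      rw [← map_mul, ← map_mul]
      congr 1
      exact Subtype.ext hg
    obtain ⟨i, hi⟩ := hf (pi ⟨g, hgc⟩) h1 (fun v hv => by
      obtain ⟨w, hw, hwx, rfl⟩ := exists_fix h hx hv
      rw [← h.eta_conj ⟨g, hgc⟩ w hw]
      congr 1
      exact key w hw hwx)
    have hi : pi x ^ i = pi ⟨g, hgc⟩ := hi
    rw [← map_zpow] at hi
    have h2 := h.pi_eq.1 hi
    have h3 : ((x : G) ^ i)⁻¹ * g ∈ Q := h2
    have hcx : Commute ((x : G) ^ i)⁻¹ (x : G) := ((Commute.refl (x : G)).zpow_left i).inv_left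
    have hcg : Commute ((x : G) ^ i) g := (show Commute (x : G) g from hg.symm).zpow_left i
    have h4 : (((x : G) ^ i)⁻¹ * g) * (x : G) = x * (((x : G) ^ i)⁻¹ * g) := by
      rw [mul_assoc, hg, ← mul_assoc, hcx.eq, mul_assoc]
    refine mem_PB.2 ⟨_, h4, h3, ?_⟩
    rw [mk_eq_mk]
    exact ⟨i, by rw [mul_assoc, ← hcg.eq, ← mul_assoc, inv_mul_cancel, one_mul]⟩

end chart

end Cfsg.Agent.LThreeMB
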