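import Cfsg.Agent.LThreeMB.Fix
import Cfsg.Agent.LThreeCo1.Rel
import Cfsg.Agent.CoOneType.CoQ
import Cfsg.Agent.CoOneType.CoW
import Cfsg.Agent.LThreeMB.SpanQ
import Cfsg.Agent.FastGrp
import Cfsg.Agent.Prune
set_option linter.all false
prune_inst 0x7f00000000000000000000000000000000000000000000000000000000000000000000000000000000000000000000000000000000000000000000000000000000000000000000000000000000000000003fffffffffffffffffffffffffffbeffbdffffffff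
open scoped Cfsg.Agent.FastGrp

/-!
# A square root of `-1` commuting with an element of order 3 of fixed rank 0 (helper68)

The matrix was generated by a script; checked by the kernel.
-/

set_option autoImplicit false
set_option maxRecDepth 100000

namespace Cfsg.Agent.LThreeMB.NegRoot

open Cfsg Cfsg.Agent.SporadicA Cfsg.Agent.SporadicA.Co0Mono Cfsg.Agent.SporadicA.Co1Simple
open Cfsg.Agent.SporadicStructure.Co0Matrix Cfsg.Agent.CoOneType.CoEval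
open Cfsg.Agent.MonsterU.Lam2 Cfsg.Agent.LThreeMB.Fix Cfsg.Agent.LThreeCo1.Rel
open Cfsg.Spor (Co1)

/-- rows of the element of order four -/
def rN : List (List ℤ) := [
  [0, 0, -8, 0, 0, 0, 0, 0, 0, 0, 0, 0, 0, 0, 0, 0, 0, 0, 0, 0, 0, 0, 0, 0],
  [0, 0, 0, -8, 0, 0, 0, 0, 0, 0, 0, 0, 0, 0, 0, 0, 0, 0, 0, 0, 0, 0, 0, 0],
  [8, 0, 0, 0, 0, 0, 0, 0, 0, 0, 0, 0, 0, 0, 0, 0, 0, 0, 0, 0, 0, 0, 0, 0],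
  [0, 8, 0, 0, 0, 0, 0, 0, 0, 0, 0, 0, 0, 0, 0, 0, 0, 0, 0, 0, 0, 0, 0, 0],
  [0, 0, 0, 0, 0, 0, 0, 0, 0, 0, 0, 0, 0, 0, 0, 0, 0, 8, 0, 0, 0, 0, 0, 0],
  [0, 0, 0, 0, 0, 0, 0, -8, 0, 0, 0, 0, 0, 0, 0, 0, 0, 0, 0, 0, 0, 0, 0, 0],
  [0, 0, 0, 0, 0, 0, 0, 0, 0, 0, 0, -8, 0, 0, 0, 0, 0, 0, 0, 0, 0, 0, 0, 0],
  [0, 0, 0, 0, 0, 8, 0, 0, 0, 0, 0, 0, 0, 0, 0, 0, 0, 0, 0, 0, 0, 0, 0, 0],
  [0, 0, 0, 0, 0, 0, 0, 0, 0, 0, 0, 0, 0, 0, 0, 0, 0, 0, 0, 0, -8, 0, 0, 0],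
  [0, 0, 0, 0, 0, 0, 0, 0, 0, 0, 0, 0, 0, 0, 0, 0, 0, 0, 0, 0, 0, 0, -8, 0],
  [0, 0, 0, 0, 0, 0, 0, 0, 0, 0, 0, 0, 0, 0, -8, 0, 0, 0, 0, 0, 0, 0, 0, 0],
  [0, 0, 0, 0, 0, 0, 8, 0, 0, 0, 0, 0, 0, 0, 0, 0, 0, 0, 0, 0, 0, 0, 0, 0],
  [0, 0, 0, 0, 0, 0, 0, 0, 0, 0, 0, 0, 0, 0, 0, 0, 0, 0, 0, 0, 0, 0, 0, -8],
  [0, 0, 0, 0, 0, 0, 0, 0, 0, 0, 0, 0, 0, 0, 0, -8, 0, 0, 0, 0, 0, 0, 0, 0],
  [0, 0, 0, 0, 0, 0, 0, 0, 0, 0, 8, 0, 0, 0, 0, 0, 0, 0, 0, 0, 0, 0, 0, 0],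
  [0, 0, 0, 0, 0, 0, 0, 0, 0, 0, 0, 0, 0, 8, 0, 0, 0, 0, 0, 0, 0, 0, 0, 0],
  [0, 0, 0, 0, 0, 0, 0, 0, 0, 0, 0, 0, 0, 0, 0, 0, 0, 0, -8, 0, 0, 0, 0, 0],
  [0, 0, 0, 0, -8, 0, 0, 0, 0, 0, 0, 0, 0, 0, 0, 0, 0, 0, 0, 0, 0, 0, 0, 0],
  [0, 0, 0, 0, 0, 0, 0, 0, 0, 0, 0, 0, 0, 0, 0, 0, 8, 0, 0, 0, 0, 0, 0, 0],
  [0, 0, 0, 0, 0, 0, 0, 0, 0, 0, 0, 0, 0, 0, 0, 0, 0, 0, 0, 0, 0, 8, 0, 0],
  [0, 0, 0, 0, 0, 0, 0, 0, 8, 0, 0, 0, 0, 0, 0, 0, 0, 0, 0, 0, 0, 0, 0, 0],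
  [0, 0, 0, 0, 0, 0, 0, 0, 0, 0, 0, 0, 0, 0, 0, 0, 0, 0, 0, -8, 0, 0, 0, 0],
  [0, 0, 0, 0, 0, 0, 0, 0, 0, 8, 0, 0, 0, 0, 0, 0, 0, 0, 0, 0, 0, 0, 0, 0],
  [0, 0, 0, 0, 0, 0, 0, 0, 0, 0, 0, 0, 8, 0, 0, 0, 0, 0, 0, 0, 0, 0, 0, 0]]

/-- columns of the element of order four -/
def cN : List (List ℤ) := [
  [0, 0, 8, 0, 0, 0, 0, 0, 0, 0, 0, 0, 0, 0, 0, 0, 0, 0, 0, 0, 0, 0, 0, 0],
  [0, 0, 0, 8, 0, 0, 0, 0, 0, 0, 0, 0, 0, 0, 0, 0, 0, 0, 0, 0, 0, 0, 0, 0],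
  [-8, 0, 0, 0, 0, 0, 0, 0, 0, 0, 0, 0, 0, 0, 0, 0, 0, 0, 0, 0, 0, 0, 0, 0],
  [0, -8, 0, 0, 0, 0, 0, 0, 0, 0, 0, 0, 0, 0, 0, 0, 0, 0, 0, 0, 0, 0, 0, 0],
  [0, 0, 0, 0, 0, 0, 0, 0, 0, 0, 0, 0, 0, 0, 0, 0, 0, -8, 0, 0, 0, 0, 0, 0],
  [0, 0, 0, 0, 0, 0, 0, 8, 0, 0, 0, 0, 0, 0, 0, 0, 0, 0, 0, 0, 0, 0, 0, 0],
  [0, 0, 0, 0, 0, 0, 0, 0, 0, 0, 0, 8, 0, 0, 0, 0, 0, 0, 0, 0, 0, 0, 0, 0],
  [0, 0, 0, 0, 0, -8, 0, 0, 0, 0, 0, 0, 0, 0, 0, 0, 0, 0, 0, 0, 0, 0, 0, 0],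
  [0, 0, 0, 0, 0, 0, 0, 0, 0, 0, 0, 0, 0, 0, 0, 0, 0, 0, 0, 0, 8, 0, 0, 0],
  [0, 0, 0, 0, 0, 0, 0, 0, 0, 0, 0, 0, 0, 0, 0, 0, 0, 0, 0, 0, 0, 0, 8, 0],
  [0, 0, 0, 0, 0, 0, 0, 0, 0, 0, 0, 0, 0, 0, 8, 0, 0, 0, 0, 0, 0, 0, 0, 0],
  [0, 0, 0, 0, 0, 0, -8, 0, 0, 0, 0, 0, 0, 0, 0, 0, 0, 0, 0, 0, 0, 0, 0, 0],
  [0, 0, 0, 0, 0, 0, 0, 0, 0, 0, 0, 0, 0, 0, 0, 0, 0, 0, 0, 0, 0, 0, 0, 8],
  [0, 0, 0, 0, 0, 0, 0, 0, 0, 0, 0, 0, 0, 0, 0, 8, 0, 0, 0, 0, 0, 0, 0, 0],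
  [0, 0, 0, 0, 0, 0, 0, 0, 0, 0, -8, 0, 0, 0, 0, 0, 0, 0, 0, 0, 0, 0, 0, 0],
  [0, 0, 0, 0, 0, 0, 0, 0, 0, 0, 0, 0, 0, -8, 0, 0, 0, 0, 0, 0, 0, 0, 0, 0],
  [0, 0, 0, 0, 0, 0, 0, 0, 0, 0, 0, 0, 0, 0, 0, 0, 0, 0, 8, 0, 0, 0, 0, 0],
  [0, 0, 0, 0, 8, 0, 0, 0, 0, 0, 0, 0, 0, 0, 0, 0, 0, 0, 0, 0, 0, 0, 0, 0],
  [0, 0, 0, 0, 0, 0, 0, 0, 0, 0, 0, 0, 0, 0, 0, 0, -8, 0, 0, 0, 0, 0, 0, 0],
  [0, 0, 0, 0, 0, 0, 0, 0, 0, 0, 0, 0, 0, 0, 0, 0, 0, 0, 0, 0, 0, -8, 0, 0],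
  [0, 0, 0, 0, 0, 0, 0, 0, -8, 0, 0, 0, 0, 0, 0, 0, 0, 0, 0, 0, 0, 0, 0, 0],
  [0, 0, 0, 0, 0, 0, 0, 0, 0, 0, 0, 0, 0, 0, 0, 0, 0, 0, 0, 8, 0, 0, 0, 0],
  [0, 0, 0, 0, 0, 0, 0, 0, 0, -8, 0, 0, 0, 0, 0, 0, 0, 0, 0, 0, 0, 0, 0, 0],
  [0, 0, 0, 0, 0, 0, 0, 0, 0, 0, 0, 0, -8, 0, 0, 0, 0, 0, 0, 0, 0, 0, 0, 0]]

theorem okN : Ok rN cN := Ok.of_bool (by exact Cfsg.Agent.CoOneType.CoQ.ok2_of (by decide +kernel))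

/-- matrices -/
def MN : ℕ → List (List ℤ)
  | 0 => rN
  | _ => M 1

/-- the elements `A`, `e 1` -/
noncomputable def eN : ℕ → Co0
  | 0 => Cfsg.Agent.SporadicStructure.Co0Matrix.mk okN
  | _ => e 1

theorem repN : ∀ i, Rep (eN i) (MN i)
  | 0 => rep_mk okN
  | _ + 1 => rep 1

theorem sq : negB MN [0, 0] = true := by (delta Cfsg.Agent.CoOneType.CoEval.negB; rewrite [Cfsg.Agent.CoOneType.CoW.fold_eq]; decide +kernel)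

theorem comm : eqL (fold MN [0, 1] betaL) (fold MN [1, 0] betaL) = true := by (rewrite [Cfsg.Agent.CoOneType.CoW.fold_eq]; decide +kernel)

theorem ne1 : neB MN [1] = true := by (delta Cfsg.Agent.CoOneType.CoEval.neB; rewrite [Cfsg.Agent.CoOneType.CoW.fold_eq]; decide +kernel)

theorem cube1 : relB MN [1, 1, 1] = true := by (delta Cfsg.Agent.CoOneType.CoEval.relB; rewrite [Cfsg.Agent.CoOneType.CoW.fold_eq]; decide +kernel)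

theorem span1 : spanB (M 1) [] = true := by exact Cfsg.Agent.LThreeMB.SpanQ.span3 (by decide +kernel)

theorem sq_eq : eN 0 * eN 0 = Co0Basic.negCo0 := by
  have h := eq_neg_of_negB repN sq
  simpa only [List.map_cons, List.map_nil, List.prod_cons, List.prod_nil, mul_one] using h

theorem negCo0_eq : Co0Basic.negCo0 = signCo0 allOne := by
  apply eq_of_fix
  apply Subtype.ext
  rw [Co0Basic.negCo0_apply]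
  funext p
  show -(vec betaL p) = sgn (((allOne : golayCode) : GolayPt → ZMod 2) p) * vec betaL p
  rw [show ((allOne : golayCode) : GolayPt → ZMod 2) p = 1 from rfl]
  rw [sgn_one]
  ring

theorem comm_eq : eN 0 * e 1 = e 1 * eN 0 := by
  have h1 := (fold_spec repN [0, 1] (l := betaL) (v := beta) (by decide) rfl).2
  have h2 := (fold_spec repN [1, 0] (l := betaL) (v := beta) (by decide) rfl).2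
  rw [eqL_eq comm, ← h2] at h1
  have h3 := eq_of_fix (Subtype.ext h1)
  simp only [List.map_cons, List.map_nil, List.prod_cons, List.prod_nil, mul_one] at h3
  exact h3

theorem fr_one : fr (QuotientGroup.mk (e 1) : Co1) = 1 := by
  have h := card_fix (rep 1) (vw := []) rfl rfl rfl span1
  rwa [List.length_nil, pow_zero] at h

theorem order_one : orderOf (QuotientGroup.mk (e 1) : Co1) = 3 := by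
  have h3 := eq_one_of_relB repN cube1
  have hn := ne_one_of_neB repN ne1
  simp only [List.map_cons, List.map_nil, List.prod_cons, List.prod_nil, mul_one] at h3 hn
  have : Fact (Nat.Prime 3) := ⟨Nat.prime_three⟩
  exact orderOf_eq_prime (by rw [pow_succ, pow_two, mul_assoc]; exact h3) hn

/-- **A square root of `-1` commuting with `s`.** -/
theorem exists_root (hcl : ClassOf 1) {s : Co1} (hs : orderOf s = 3) (hfr : fr s = 1) :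
    ∃ A : Co0, A * A = signCo0 allOne ∧ (QuotientGroup.mk A : Co1) * s = s * QuotientGroup.mk A := by
  obtain ⟨k, hk⟩ := hcl _ s order_one hs fr_one hfr
  obtain ⟨B, rfl⟩ := QuotientGroup.mk_surjective k
  refine ⟨B * eN 0 * B⁻¹, ?_, ?_⟩
  · have h1 : Co0Basic.negCo0 ∈ Subgroup.center Co0 := Co0Basic.negCo0_mem_center
    rw [← negCo0_eq]
    calc B * eN 0 * B⁻¹ * (B * eN 0 * B⁻¹) = B * (eN 0 * eN 0) * B⁻¹ := by group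
      _ = Co0Basic.negCo0 := by
        rw [sq_eq, Subgroup.mem_center_iff.1 h1 B, mul_inv_cancel_right]
  · rw [← hk, ← QuotientGroup.mk_inv, ← QuotientGroup.mk_mul, ← QuotientGroup.mk_mul, ← QuotientGroup.mk_mul,
      ← QuotientGroup.mk_mul]
    congr 1
    calc B * eN 0 * B⁻¹ * (B * e 1 * B⁻¹) = B * (eN 0 * e 1) * B⁻¹ := by group
      _ = B * (e 1 * eN 0) * B⁻¹ := by rw [comm_eq]
      _ = B * e 1 * B⁻¹ * (B * eN 0 * B⁻¹) := by group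

end Cfsg.Agent.LThreeMB.NegRoot
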