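import Cfsg.Agent.LThree.Red
import Cfsg.Agent.LThreeMB.Quo
import Cfsg.Agent.S0215
set_option linter.all false

-- merged: Cfsg.Agent.LThreeMB.Ext
section

/-!
# Groups with a solvable normal subgroup and simple quotient (helper68)

`comps_of_simple` : `W` normal and solvable, `H / W` simple on the `C_3` list (and not `A6`, `O'N`): `Comps 3 H`.
-/

set_option autoImplicit false

namespace Cfsg.Agent.LThreeMB.Ext

open Subgroup Cfsg Cfsg.Agent.LThree Cfsg.Agent.SignalizersComponents

universe u v

/-- The components of `H` (with `O_{p'}(H) = 1`) if `H / W` is simple and `W` solvable. -/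
theorem inC_of_component {H : Type u} [Group H] [Finite H] {p : ℕ} (hp : p.Prime) (hH : pPrimeCore p H = ⊥)
    {S : Type v} [Group S] (hS : IsSimpleGroup S) (f : H →* S) (hf : Function.Surjective f)
    (hW : Group.IsSolvable ↥f.ker) (hC : IsCpSimple p S)
    (hE : ∀ (K : Type u) [Group K], IsCpException p K → ¬ Nonempty (K ⧸ center K ≃* S)) {K : Subgroup H}
    (hK : IsComponent K) : InC p ↥K := by
  have hWn : (f.ker.subgroupOf K).Normal := inferInstance
  have hle : f.ker.subgroupOf K ≤ center ↥K := by
    rcases Components.quasisimple_subnormal hK.2 hWn.isSubnormal with h | h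
    · exfalso
      have h1 : K ≤ f.ker := subgroupOf_eq_top.1 h
      apply Components.quasisimple_not_isSolvable hK.2
      have h2 : Function.Injective (inclusion h1) := inclusion_injective h1
      exact Group.isSolvable_of_isSolvable_injective h2
    · exact h
  let g : ↥K →* S := f.comp K.subtype
  have hgk : g.ker = f.ker.subgroupOf K := rfl
  have hgr : g.range = ⊤ := by
    have h1 : g.range = K.map f := by rw [MonoidHom.range_comp, range_subtype]
    have h2 : (K.map f).IsSubnormal := hK.1.map hf
    rcases h2.eq_bot_or_top_of_isSimpleGroup hS with h | h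
    · exfalso
      have h3 : K ≤ f.ker := (Subgroup.map_eq_bot_iff K).1 h
      apply Components.quasisimple_center_ne_top hK.2
      rw [eq_top_iff]
      intro y _
      exact hle (mem_subgroupOf.2 (h3 y.2))
    · rw [h1, h]
  have hgs : Function.Surjective g := MonoidHom.range_eq_top.1 hgr
  -- the centre of `K` is the kernel
  have hnc : ¬ IsMulCommutative S := by
    intro hc
    apply Components.quasisimple_not_isSolvable hK.2
    rw [Group.isSolvable_iff_subgroup_quotient g.ker]
    refine ⟨?_, ?_⟩
    · rw [hgk]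
      exact Group.isSolvable_of_comm fun a b => Subtype.ext (mem_center_iff.1 (hle b.2) a)
    · have h1 : Group.IsSolvable S := Group.isSolvable_of_comm fun a b => hc.is_comm.comm a b
      exact Group.isSolvable_of_isSolvable_injective
        (f := (QuotientGroup.quotientKerEquivOfSurjective g hgs).toMonoidHom)
        (QuotientGroup.quotientKerEquivOfSurjective g hgs).injective
  have hcS : center S = ⊥ := by
    rcases (inferInstance : (center S).Normal).eq_bot_or_eq_top with h | h
    · exact h
    · exfalso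
      apply hnc
      refine ⟨⟨fun a b => ?_⟩⟩
      have : b ∈ center S := by rw [h]; trivial
      exact mem_center_iff.1 this a
  have hker : g.ker = center ↥K := by
    apply le_antisymm
    · rw [hgk]; exact hle
    · intro y hy
      rw [MonoidHom.mem_ker]
      have h1 : g y ∈ center S := by
        rw [mem_center_iff]
        intro s
        obtain ⟨w, rfl⟩ := hgs s
        rw [← map_mul, ← map_mul, mem_center_iff.1 hy w]
      rw [hcS] at h1
      exact mem_bot.1 h1
  let e : ↥K ⧸ center ↥K ≃* S :=
    (QuotientGroup.quotientMulEquivOfEq hker.symm).trans (QuotientGroup.quotientKerEquivOfSurjective g hgs)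
  exact ⟨hK.2, Red.isPGroup_center_comp hp hH hK.1, (CpQuot.Congr.isCpSimple_iff e p).2 hC, fun h => hE _ h ⟨e⟩⟩

/-- **`H / W` simple on the `C_p`-list, `W` solvable.** -/
theorem comps_of_simple {H : Type u} [Group H] [Finite H] {p : ℕ} (hp : p.Prime) (W : Subgroup H) [W.Normal]
    (hW : Group.IsSolvable ↥W) (hS : IsSimpleGroup (H ⧸ W)) (hC : IsCpSimple p (H ⧸ W))
    (hE : ∀ (K : Type u) [Group K], IsCpException p K → ¬ Nonempty (K ⧸ center K ≃* H ⧸ W)) : Comps p H := by
  have hn := Lib.Cores.pPrimeCore_normal (G := H) p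
  have hO : ((pPrimeCore p H).map (QuotientGroup.mk' W)).Normal :=
    Subgroup.Normal.map hn _ (QuotientGroup.mk'_surjective W)
  rcases hO.eq_bot_or_eq_top with h | h
  · -- `O_{p'}(H) ≤ W`
    have hle : pPrimeCore p H ≤ W := by
      have := (Subgroup.map_eq_bot_iff _).1 h
      rwa [QuotientGroup.ker_mk'] at this
    intro K hK
    let f : H ⧸ pPrimeCore p H →* H ⧸ W := QuotientGroup.map (pPrimeCore p H) W (MonoidHom.id H) hle
    have hf : Function.Surjective f := by
      intro y
      obtain ⟨g, rfl⟩ := QuotientGroup.mk'_surjective W y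
      exact ⟨QuotientGroup.mk g, rfl⟩
    have hk : Group.IsSolvable ↥f.ker := by
      -- the image of `W`
      let k : ↥W →* ↥f.ker :=
        ((QuotientGroup.mk' (pPrimeCore p H)).comp W.subtype).codRestrict f.ker (fun w => by
          rw [MonoidHom.mem_ker]
          exact (QuotientGroup.eq_one_iff _).2 w.2)
      have hks : Function.Surjective k := by
        rintro ⟨y, hy⟩
        obtain ⟨g, rfl⟩ := QuotientGroup.mk'_surjective (pPrimeCore p H) y
        have h1 : (QuotientGroup.mk g : H ⧸ W) = 1 := hy
        exact ⟨⟨g, (QuotientGroup.eq_one_iff _).1 h1⟩, rfl⟩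
      exact Group.isSolvable_of_surjective hks
    exact inC_of_component hp (Lib.Cores.pPrimeCore_quotient_pPrimeCore p) hS f hf hk hC hE hK
  · -- `H = O_{p'}(H) W`
    intro K hK
    exfalso
    apply Components.quasisimple_not_isSolvable hK.2
    have h1 : pPrimeCore p H ⊔ W = ⊤ := by
      have h2 := congrArg (Subgroup.comap (QuotientGroup.mk' W)) h
      rw [comap_map_eq, QuotientGroup.ker_mk', comap_top] at h2
      exact h2
    let k : ↥W →* H ⧸ pPrimeCore p H := (QuotientGroup.mk' (pPrimeCore p H)).comp W.subtype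
    have hks : Function.Surjective k := by
      intro y
      obtain ⟨g, rfl⟩ := QuotientGroup.mk'_surjective (pPrimeCore p H) y
      have h2 : g ∈ pPrimeCore p H ⊔ W := by rw [h1]; trivial
      rw [mem_sup_of_normal_left] at h2
      obtain ⟨a, ha, b, hb, rfl⟩ := h2
      refine ⟨⟨b, hb⟩, ?_⟩
      show (QuotientGroup.mk b : H ⧸ pPrimeCore p H) = QuotientGroup.mk (a * b)
      rw [QuotientGroup.mk_mul, (QuotientGroup.eq_one_iff a).2 ha, one_mul]
    have h3 : Group.IsSolvable (H ⧸ pPrimeCore p H) := Group.isSolvable_of_surjective hks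
    infer_instance

/-- the exceptions for `p = 3` -/
theorem not_exception_three {S : Type v} [Group S] (h6 : Nat.card S ≠ 360) (hON : ¬ Spor.IsoON S)
    (K : Type u) [Group K] (hK : IsCpException 3 K) : ¬ Nonempty (K ⧸ center K ≃* S) := by
  rintro ⟨e⟩
  rcases hK with ⟨h, -⟩ | ⟨-, -, h | h⟩
  · norm_num at h
  · obtain ⟨e'⟩ := h
    apply h6
    rw [Nat.card_congr (e.symm.trans e').toEquiv, nat_card_alternatingGroup, Nat.card_fin]
    decide
  · apply hON
    exact h.map fun e' => e.symm.trans e'

end Cfsg.Agent.LThreeMB.Ext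

end

-- merged: Cfsg.Agent.LThreeMB.ZStar
section

/-!
# Isolated involutions (helper68)

`D` finite, `z` an involution which is its only conjugate in `C_D(z)`.  Then `D = N C_D(z)` with `N` normal of odd order; if
`C_D(z)` has a solvable normal subgroup with simple quotient on the `C_p`-list, then `Comps p D`.
-/

set_option autoImplicit false

namespace Cfsg.Agent.LThreeMB.ZStar

open Subgroup Cfsg Cfsg.Agent.LThree

universe u v

/-- **Glauberman's theorem**, for an involution isolated in its centralizer. -/
theorem exists_core {D : Type u} [Group D] [Finite D] {z : D} (hz : orderOf z = 2)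
    (hiso : ∀ d : D, (d * z * d⁻¹) * z = z * (d * z * d⁻¹) → d * z * d⁻¹ = z) :
    ∃ N : Subgroup D, N.Normal ∧ Odd (Nat.card ↥N) ∧ N ⊔ centralizer ({z} : Set D) = ⊤ := by
  have h2 : Fact (Nat.Prime 2) := ⟨Nat.prime_two⟩
  have hp : IsPGroup 2 ↥(zpowers z) := IsPGroup.of_card (n := 1) (by rw [Nat.card_zpowers, hz, pow_one])
  obtain ⟨P, hP⟩ := hp.exists_le_sylow
  have hzP : z ∈ P := hP (mem_zpowers z)
  have hPC : (P : Subgroup D) ≤ centralizer ({z} : Set D) := by
    by_contra hcon
    have hlt : (centralizer ({z} : Set D)).subgroupOf (P : Subgroup D) < ⊤ := by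
      rw [lt_top_iff_ne_top]
      intro h
      exact hcon (subgroupOf_eq_top.1 h)
    have hnil : Group.IsNilpotent ↥(P : Subgroup D) := P.isPGroup'.isNilpotent
    have h3 := Group.normalizerCondition_of_isNilpotent (G := ↥(P : Subgroup D)) _ hlt
    obtain ⟨n, hn, hnC⟩ := SetLike.exists_of_lt h3
    apply hnC
    rw [mem_subgroupOf, mem_centralizer_singleton_iff]
    have h4 := (mem_normalizer_iff.1 hn (⟨z, hzP⟩ : ↥(P : Subgroup D))).1
      (mem_subgroupOf.2 (mem_centralizer_singleton_iff.2 rfl))
    have h5 := hiso n (mem_centralizer_singleton_iff.1 (mem_subgroupOf.1 h4))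
    exact (mul_inv_eq_iff_eq_mul.1 h5)
  obtain ⟨N, hN, hNo, hc⟩ := Cfsg.Agent.S0215.result P z hz hzP (fun g hg =>
    hiso g (mem_centralizer_singleton_iff.1 (hPC hg)))
  refine ⟨N, hN, hNo, ?_⟩
  have hcop : (Nat.card ↥N).Coprime 2 := Nat.coprime_two_right.2 hNo
  have h3 := Red.centralizer_mk Nat.prime_two N hcop hz
  have h4 : centralizer ({(QuotientGroup.mk' N z)} : Set (D ⧸ N)) = ⊤ := by
    rw [eq_top_iff]
    intro y _
    obtain ⟨g, rfl⟩ := QuotientGroup.mk'_surjective N y
    rw [mem_centralizer_singleton_iff, ← map_mul, ← map_mul]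
    apply QuotientGroup.eq.2
    have h5 := hN.conj_mem _ (hc g) (g * z)⁻¹
    have h6 : (g * z)⁻¹ * (z * g) = ((g * z)⁻¹ * (z * g * z⁻¹ * g⁻¹) * (g * z)⁻¹⁻¹) := by group
    rw [h6]
    exact h5
  rw [h4] at h3
  have h5 := congrArg (Subgroup.comap (QuotientGroup.mk' N)) h3
  rw [comap_map_eq, QuotientGroup.ker_mk', comap_top] at h5
  rw [h5, sup_comm]

/-- `Comps p` from a homomorphism onto a simple group on the list with solvable kernel. -/
theorem comps_of_hom {H : Type u} [Group H] [Finite H] {p : ℕ} (hp : p.Prime) {S : Type v} [Group S]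
    (hS : IsSimpleGroup S) (F : H →* S) (hF : Function.Surjective F) (hk : Group.IsSolvable ↥F.ker)
    (hC : IsCpSimple p S) (hE : ∀ (K : Type u) [Group K], IsCpException p K → ¬ Nonempty (K ⧸ center K ≃* S)) :
    Comps p H := by
  let e := QuotientGroup.quotientKerEquivOfSurjective F hF
  refine Ext.comps_of_simple hp F.ker hk ((MulEquiv.isSimpleGroup_congr e).2 hS)
    ((CpQuot.Congr.isCpSimple_iff e p).2 hC) ?_
  intro K _ hK
  rintro ⟨e'⟩
  exact hE K hK ⟨e'.trans e⟩

/-- **`z` isolated in `C_D(z)`, `C_D(z)` modulo a solvable normal subgroup is simple on the list.** -/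
theorem comps_of_isolated (FT : ∀ (K : Type u) [Group K] [Finite K], Odd (Nat.card K) → Group.IsSolvable K)
    {D : Type u} [Group D] [Finite D] {p : ℕ} (hp : p.Prime) {z : D} (hz : orderOf z = 2)
    (hiso : ∀ d : D, (d * z * d⁻¹) * z = z * (d * z * d⁻¹) → d * z * d⁻¹ = z)
    {S : Type v} [Group S] (hS : IsSimpleGroup S) (hev : Even (Nat.card S)) (f : ↥(centralizer ({z} : Set D)) →* S)
    (hf : Function.Surjective f) (hk : Group.IsSolvable ↥f.ker) (hC : IsCpSimple p S)
    (hE : ∀ (K : Type u) [Group K], IsCpException p K → ¬ Nonempty (K ⧸ center K ≃* S)) : Comps p D := by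
  obtain ⟨N, hN, hNo, hsup⟩ := exists_core hz hiso
  let α : ↥(centralizer ({z} : Set D)) →* D ⧸ N := (QuotientGroup.mk' N).comp (centralizer ({z} : Set D)).subtype
  have hα : Function.Surjective α := by
    intro y
    obtain ⟨g, rfl⟩ := QuotientGroup.mk'_surjective N y
    have hg : g ∈ N ⊔ centralizer ({z} : Set D) := by rw [hsup]; trivial
    obtain ⟨n, hn, c, hc, rfl⟩ := mem_sup_of_normal_left.1 hg
    refine ⟨⟨c, hc⟩, ?_⟩
    show QuotientGroup.mk' N c = QuotientGroup.mk' N (n * c)
    rw [map_mul, show QuotientGroup.mk' N n = 1 from (QuotientGroup.eq_one_iff _).2 hn, one_mul]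
  have hαk : α.ker = N.subgroupOf (centralizer ({z} : Set D)) := by
    ext x
    rw [MonoidHom.mem_ker, mem_subgroupOf]
    exact QuotientGroup.eq_one_iff _
  -- the image of `N ∩ C(z)` in `S` is trivial
  have hSf : Finite S := Finite.of_surjective f hf
  have hle : α.ker ≤ f.ker := by
    rw [hαk]
    have h1 : ((N.subgroupOf (centralizer ({z} : Set D))).map f).Normal := Subgroup.Normal.map inferInstance f hf
    have h2 : Nat.card ↥((N.subgroupOf (centralizer ({z} : Set D))).map f) ∣ Nat.card ↥N := by
      refine (card_map_dvd _ f).trans ?_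
      have h3 : Nat.card ↥(N.subgroupOf (centralizer ({z} : Set D))) =
          Nat.card ↥((N.subgroupOf (centralizer ({z} : Set D))).map (centralizer ({z} : Set D)).subtype) :=
        (card_map_of_injective (Subgroup.subtype_injective _)).symm
      rw [h3, subgroupOf_map_subtype]
      exact card_dvd_of_le inf_le_left
    rcases h1.eq_bot_or_eq_top with h | h
    · exact (Subgroup.map_eq_bot_iff _).1 h
    · exfalso
      rw [h, card_top] at h2
      exact (Nat.not_even_iff_odd.2 (hNo.of_dvd_nat h2)) hev
  obtain ⟨ρ, hρ⟩ := exists_fac α hα f (fun a ha => hle ha)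
  have hρs : Function.Surjective ρ := by
    intro s
    obtain ⟨c, rfl⟩ := hf s
    exact ⟨α c, hρ c⟩
  let F : D →* S := ρ.comp (QuotientGroup.mk' N)
  have hF : Function.Surjective F := hρs.comp (QuotientGroup.mk'_surjective N)
  refine comps_of_hom hp hS F hF ?_ hC hE
  -- the kernel
  let β : ↥F.ker →* ↥ρ.ker := ((QuotientGroup.mk' N).comp F.ker.subtype).codRestrict ρ.ker (fun g => g.2)
  have hβk : Group.IsSolvable ↥β.ker := by
    let γ : ↥β.ker →* ↥N := (F.ker.subtype.comp β.ker.subtype).codRestrict N (fun g => by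
      have h1 : β (g : ↥F.ker) = 1 := g.2
      exact (QuotientGroup.eq_one_iff _).1 (congrArg Subtype.val h1))
    have hγ : Function.Injective γ := by
      intro a b hab
      have h1 : ((a : ↥F.ker) : D) = ((b : ↥F.ker) : D) := congrArg (fun n : ↥N => (n : D)) hab
      exact Subtype.ext (Subtype.ext h1)
    have hNs : Group.IsSolvable ↥N := FT ↥N hNo
    exact Group.isSolvable_of_isSolvable_injective hγ
  have hρk : Group.IsSolvable ↥ρ.ker := by
    let γ : ↥f.ker →* ↥ρ.ker := (α.comp f.ker.subtype).codRestrict ρ.ker (fun g => by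
      rw [MonoidHom.mem_ker]
      show ρ (α g) = 1
      rw [hρ]; exact g.2)
    have hγ : Function.Surjective γ := by
      rintro ⟨y, hy⟩
      obtain ⟨c, rfl⟩ := hα y
      exact ⟨⟨c, by rw [MonoidHom.mem_ker, ← hρ]; exact hy⟩, rfl⟩
    exact Group.isSolvable_of_surjective hγ
  rw [Group.isSolvable_iff_subgroup_quotient β.ker]
  refine ⟨hβk, ?_⟩
  have h1 : Group.IsSolvable ↥β.range := inferInstance
  exact Group.isSolvable_of_isSolvable_injective (f := (QuotientGroup.quotientKerEquivRange β).toMonoidHom)
    (QuotientGroup.quotientKerEquivRange β).injective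

end Cfsg.Agent.LThreeMB.ZStar

end
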