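import Cfsg.Agent.Lib.GenFitting
import Cfsg.Agent.SignalizersComponents.Components
set_option linter.all false

/-!
# `F*(C) = Q` (helper68)
-/

set_option autoImplicit false

namespace Cfsg.Agent.LThreeMB

open Cfsg Cfsg.Agent.SignalizersComponents

/-- `Q` is a normal 2-subgroup with `C_C(Q) ≤ Q` containing every normal 2-subgroup. -/
theorem genFitting_eq {C : Type*} [Group C] [Finite C] (Q : Subgroup C) [Q.Normal] (h2 : IsPGroup 2 ↥Q)
    (hc : Subgroup.centralizer (Q : Set C) ≤ Q) (hO : ∀ N : Subgroup C, N.Normal → IsPGroup 2 ↥N → N ≤ Q) :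
    generalizedFittingSubgroup C = Q := by
  have : Fact (Nat.Prime 2) := ⟨Nat.prime_two⟩
  apply le_antisymm
  · refine sup_le (sSup_le ?_) ?_
    · intro K hK
      have hK : IsComponent K := hK
      have hnot : ¬ K ≤ Q := by
        intro h
        apply Components.quasisimple_not_isSolvable hK.2
        have h3 : IsPGroup 2 ↥K := h2.to_le h
        have := h3.isNilpotent
        infer_instance
      rcases Components.component_le_or_commutator_eq_bot_of_le_normalizer hK (H := Q)
        (by rw [Subgroup.normalizer_eq_top]; exact le_top) with h | h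
      · exact absurd h hnot
      · exact (Subgroup.commutator_eq_bot_iff_le_centralizer.1 h).trans hc
    · rw [Lib.Cores.fittingSubgroup_eq_iSup_pCore]
      refine iSup_le ?_
      rintro ⟨q, hq⟩
      have : Fact q.Prime := ⟨hq⟩
      by_cases hq2 : q = 2
      · subst hq2
        exact hO _ (Lib.Cores.pCore_normal 2) (Lib.Cores.pCore_isPGroup 2)
      · have hn : (pCore q C).Normal := Lib.Cores.pCore_normal q
        have hdis : Disjoint (pCore q C) Q :=
          IsPGroup.disjoint_of_ne q 2 hq2 _ _ (Lib.Cores.pCore_isPGroup q) h2
        refine le_trans ?_ hc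
        intro y hy
        rw [Subgroup.mem_centralizer_iff]
        intro x hx
        exact (Subgroup.commute_of_normal_of_disjoint (pCore q C) Q hn inferInstance hdis y x hy hx).eq.symm
  · refine le_trans ?_ le_sup_right
    have := h2.isNilpotent
    exact Lib.Cores.le_fittingSubgroup inferInstance this

end Cfsg.Agent.LThreeMB
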